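import Mathlib.GroupTheory.SchurZassenhaus
import Mathlib.GroupTheory.Sylow
import Mathlib.GroupTheory.Solvable
import Mathlib.GroupTheory.Nilpotent

/-!
Elementary facts about conjugation, products and solvable subgroups used by the coprime action
library.
-/

set_option autoImplicit false

namespace Cfsg.Agent.Coprime

open scoped Pointwise

variable {G G' : Type*} [Group G] [Group G']

theorem mem_conj_smul {g x : G} {H : Subgroup G} :
    x ∈ MulAut.conj g • H ↔ g⁻¹ * x * g ∈ H := by
  simp [Subgroup.mem_pointwise_smul_iff_inv_smul_mem, MulAut.smul_def]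

theorem conj_mem_conj_smul {g x : G} {H : Subgroup G} (hx : x ∈ H) :
    g * x * g⁻¹ ∈ MulAut.conj g • H := by
  rw [mem_conj_smul]; simpa [mul_assoc] using hx

theorem card_conj_smul (g : G) (H : Subgroup G) :
    Nat.card ↥(MulAut.conj g • H) = Nat.card H :=
  (Nat.card_congr (Subgroup.equivSMul (MulAut.conj g) H).toEquiv).symm

theorem conj_smul_mul (g h : G) (H : Subgroup G) :
    MulAut.conj (g * h) • H = MulAut.conj g • MulAut.conj h • H := by
  rw [map_mul, mul_smul]

theorem conj_smul_one (H : Subgroup G) : MulAut.conj (1 : G) • H = H := by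
  rw [map_one, one_smul]

theorem conj_inv_smul_smul (g : G) (H : Subgroup G) :
    MulAut.conj g⁻¹ • MulAut.conj g • H = H := by
  rw [← conj_smul_mul, inv_mul_cancel, conj_smul_one]

theorem conj_smul_eq_self_iff {g : G} {H : Subgroup G} :
    MulAut.conj g • H = H ↔ g ∈ Subgroup.normalizer (H : Set G) := by
  rw [Subgroup.mem_normalizer_iff'', SetLike.ext_iff]
  simp only [mem_conj_smul]
  exact forall_congr' fun x => ⟨fun h => h.symm, fun h => h.symm⟩

theorem conj_smul_normalizer (g : G) (H : Subgroup G) :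
    MulAut.conj g • Subgroup.normalizer (H : Set G) =
      Subgroup.normalizer ((MulAut.conj g • H : Subgroup G) : Set G) := by
  ext x
  simp only [mem_conj_smul, ← conj_smul_eq_self_iff, conj_smul_mul]
  constructor
  · intro h
    have h' := congrArg (fun K => MulAut.conj g • K) h
    simpa only [← conj_smul_mul, mul_inv_cancel_left, mul_assoc, mul_inv_cancel, one_mul]
      using h'
  · intro h
    rw [h, conj_inv_smul_smul]

theorem conj_smul_eq_map (g : G) (H : Subgroup G) :
    MulAut.conj g • H = H.map (MulAut.conj g).toMonoidHom := rfl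

theorem conj_smul_commutator (g : G) (H K : Subgroup G) :
    MulAut.conj g • ⁅H, K⁆ = ⁅MulAut.conj g • H, MulAut.conj g • K⁆ := by
  simp only [conj_smul_eq_map]; exact Subgroup.map_commutator _ _ _

theorem map_conj_smul (f : G →* G') (g : G) (H : Subgroup G) :
    (MulAut.conj g • H).map f = MulAut.conj (f g) • H.map f := by
  ext x
  simp only [Subgroup.mem_map, mem_conj_smul]
  constructor
  · rintro ⟨y, hy, rfl⟩
    exact ⟨g⁻¹ * y * g, hy, by simp⟩
  · rintro ⟨z, hz, hzx⟩
    refine ⟨g * z * g⁻¹, by simpa [mul_assoc] using hz, ?_⟩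
    rw [map_mul, map_mul, map_inv, hzx]; group

theorem mem_sup_of_le_normalizer {N H : Subgroup G} (h : H ≤ Subgroup.normalizer (N : Set G))
    {x : G} : x ∈ N ⊔ H ↔ ∃ n ∈ N, ∃ y ∈ H, n * y = x := by
  rw [← SetLike.mem_coe, Subgroup.coe_mul_of_right_le_normalizer_left N H h, Set.mem_mul]
  rfl

theorem disjoint_of_coprime {N H : Subgroup G} (hcop : (Nat.card N).Coprime (Nat.card H)) :
    Disjoint N H :=
  Subgroup.disjoint_of_coprime_natCard hcop

theorem card_sup_of_disjoint {N H : Subgroup G} (h : H ≤ Subgroup.normalizer (N : Set G))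
    (hd : Disjoint N H) : Nat.card ↥(N ⊔ H) = Nat.card N * Nat.card H := by
  rw [← Nat.card_prod]
  refine (Nat.card_congr (Equiv.ofBijective
    (fun p : N × H => (⟨p.1 * p.2, Subgroup.mul_mem_sup p.1.2 p.2.2⟩ : ↥(N ⊔ H))) ⟨?_, ?_⟩)).symm
  · intro p q hpq
    exact Subgroup.mul_injective_of_disjoint hd (Subtype.ext_iff.mp hpq)
  · rintro ⟨x, hx⟩
    obtain ⟨n, hn, y, hy, rfl⟩ := (mem_sup_of_le_normalizer h).mp hx
    exact ⟨(⟨n, hn⟩, ⟨y, hy⟩), rfl⟩

theorem card_sup_of_coprime {N H : Subgroup G} (h : H ≤ Subgroup.normalizer (N : Set G))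
    (hcop : (Nat.card N).Coprime (Nat.card H)) :
    Nat.card ↥(N ⊔ H) = Nat.card N * Nat.card H :=
  card_sup_of_disjoint h (disjoint_of_coprime hcop)

/-- Subgroups of a solvable subgroup are solvable. -/
theorem isSolvable_of_le {H K : Subgroup G} (hle : H ≤ K) (hK : Group.IsSolvable K) :
    Group.IsSolvable H :=
  Group.isSolvable_of_isSolvable_injective (Subgroup.inclusion_injective hle)

theorem commutator_lt_of_isSolvable {H : Subgroup G} (hs : Group.IsSolvable H) (hH : H ≠ ⊥) :
    ⁅H, H⁆ < H := by
  rw [← Subgroup.nontrivial_iff_ne_bot] at hH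
  rw [← H.range_subtype, MonoidHom.range_eq_map, ← Subgroup.map_commutator,
    Subgroup.map_subtype_lt_map_subtype]
  exact Group.IsSolvable.commutator_lt_top_of_nontrivial H

theorem isSolvable_map {H : Subgroup G} (f : G →* G') (hH : Group.IsSolvable H) :
    Group.IsSolvable (H.map f) :=
  Group.isSolvable_of_surjective (f.subgroupMap_surjective H)

theorem isSolvable_conj_smul {H : Subgroup G} (g : G) (hH : Group.IsSolvable H) :
    Group.IsSolvable ↥(MulAut.conj g • H) :=
  Group.isSolvable_of_surjective (f := (Subgroup.equivSMul (MulAut.conj g) H).toMonoidHom)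
    (Subgroup.equivSMul (MulAut.conj g) H).surjective

theorem isSolvable_of_isPGroup {p : ℕ} [Fact p.Prime] [Finite G] (h : IsPGroup p G) :
    Group.IsSolvable G :=
  have := h.isNilpotent; inferInstance

theorem isSolvable_of_isMulCommutative (H : Subgroup G) [IsMulCommutative H] :
    Group.IsSolvable H :=
  Group.isSolvable_of_comm fun a b => IsMulCommutative.is_comm.comm a b

end Cfsg.Agent.Coprime
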