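import Cfsg.Agent.Lib.Coprime.Action
import Mathlib.Algebra.BigOperators.Group.Finset.Basic
import Mathlib.GroupTheory.Frattini

/-!
Commutators in coprime action: `K = [K,A] C_K(A)`, `[K,A,A] = [K,A]`, abelian decomposition,
stabilising a normal series.
-/

set_option autoImplicit false

namespace Cfsg.Agent.Coprime

open scoped Pointwise commutatorElement IsMulCommutative

variable {G : Type*} [Group G]

theorem commutator_le_of_le_normalizer {A K : Subgroup G}
    (hAK : A ≤ Subgroup.normalizer (K : Set G)) : ⁅K, A⁆ ≤ K :=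
  Subgroup.le_normalizer_iff_commutator_le_left.mp hAK

theorem commutator_eq_bot_iff_le_centralizer' {A K : Subgroup G} :
    ⁅K, A⁆ = ⊥ ↔ A ≤ Subgroup.centralizer (K : Set G) := by
  rw [Subgroup.commutator_comm, Subgroup.commutator_eq_bot_iff_le_centralizer]

/-- Every element of `K` is a fixed point times an element of `⁅K, A⁆`. -/
theorem exists_eq_centralizer_mul_commutator [Finite G] {A K : Subgroup G}
    (hAK : A ≤ Subgroup.normalizer (K : Set G)) (hcop : (Nat.card A).Coprime (Nat.card K))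
    (hsolv : Group.IsSolvable A ∨ Group.IsSolvable K) {k : G} (hk : k ∈ K) :
    ∃ c ∈ K ⊓ Subgroup.centralizer (A : Set G), ∃ x ∈ ⁅K, A⁆, k = c * x := by
  obtain ⟨c, hc, hkc⟩ := exists_fixed_mod hcop hsolv (commutator_le_of_le_normalizer hAK)
    (Subgroup.normalizer_commutator_ge_left K A) (Subgroup.normalizer_commutator_ge_right K A) hk
    (fun a ha => by
      rw [← commutatorElement_def, ← commutatorElement_inv]
      exact inv_mem (Subgroup.commutator_mem_commutator hk ha))
  exact ⟨c, hc, (k⁻¹ * c)⁻¹, inv_mem hkc, by group⟩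

/-- `K = ⁅K, A⁆ C_K(A)`. -/
theorem commutator_sup_inf_centralizer [Finite G] {A K : Subgroup G}
    (hAK : A ≤ Subgroup.normalizer (K : Set G)) (hcop : (Nat.card A).Coprime (Nat.card K))
    (hsolv : Group.IsSolvable A ∨ Group.IsSolvable K) :
    ⁅K, A⁆ ⊔ (K ⊓ Subgroup.centralizer (A : Set G)) = K := by
  refine le_antisymm (sup_le (commutator_le_of_le_normalizer hAK) inf_le_left) ?_
  intro k hk
  obtain ⟨c, hc, x, hx, rfl⟩ := exists_eq_centralizer_mul_commutator hAK hcop hsolv hk
  exact mul_mem (Subgroup.mem_sup_right hc) (Subgroup.mem_sup_left hx)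

/-- If `K` is generated modulo fixed points by `X`, then `⁅K, A⁆ ≤ ⁅X, A⁆`. -/
theorem commutator_le_of_forall_eq_mul {A K X : Subgroup G}
    (h : ∀ k ∈ K, ∃ x ∈ X, ∃ c ∈ Subgroup.centralizer (A : Set G), k = x * c) :
    ⁅K, A⁆ ≤ ⁅X, A⁆ := by
  rw [Subgroup.commutator_le]
  intro k hk a ha
  obtain ⟨x, hx, c, hc, rfl⟩ := h k hk
  have hca : ⁅c, a⁆ = 1 :=
    commutatorElement_eq_one_iff_commute.mpr (Subgroup.mem_centralizer_iff.mp hc a ha).symm
  rw [commutatorElement_mul_left_eq_conj_mul, hca, mul_one, mul_inv_cancel, one_mul]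
  exact Subgroup.commutator_mem_commutator hx ha

/-- `⁅⁅K, A⁆, A⁆ = ⁅K, A⁆`. -/
theorem commutator_commutator_eq [Finite G] {A K : Subgroup G}
    (hAK : A ≤ Subgroup.normalizer (K : Set G)) (hcop : (Nat.card A).Coprime (Nat.card K))
    (hsolv : Group.IsSolvable A ∨ Group.IsSolvable K) :
    ⁅⁅K, A⁆, A⁆ = ⁅K, A⁆ := by
  refine le_antisymm (Subgroup.commutator_mono (commutator_le_of_le_normalizer hAK) le_rfl)
    (commutator_le_of_forall_eq_mul fun k hk => ?_)
  obtain ⟨c, hc, x, hx, h⟩ := exists_eq_centralizer_mul_commutator hAK hcop hsolv (inv_mem hk)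
  exact ⟨x⁻¹, inv_mem hx, c⁻¹, inv_mem hc.2, by rw [← mul_inv_rev, ← h, inv_inv]⟩

/-- If `⁅K, A, A⁆ = 1` then `A` centralises `K`. -/
theorem le_centralizer_of_commutator_commutator_eq_bot [Finite G] {A K : Subgroup G}
    (hAK : A ≤ Subgroup.normalizer (K : Set G)) (hcop : (Nat.card A).Coprime (Nat.card K))
    (hsolv : Group.IsSolvable A ∨ Group.IsSolvable K) (h : ⁅⁅K, A⁆, A⁆ = ⊥) :
    A ≤ Subgroup.centralizer (K : Set G) :=
  commutator_eq_bot_iff_le_centralizer'.mp (commutator_commutator_eq hAK hcop hsolv ▸ h)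

/-- If `A` centralises `N` and `K / N` then it centralises `K`. -/
theorem le_centralizer_of_series [Finite G] {A K N : Subgroup G}
    (hAK : A ≤ Subgroup.normalizer (K : Set G)) (hcop : (Nat.card A).Coprime (Nat.card K))
    (hsolv : Group.IsSolvable A ∨ Group.IsSolvable K)
    (hAN : A ≤ Subgroup.centralizer (N : Set G)) (hKA : ⁅K, A⁆ ≤ N) :
    A ≤ Subgroup.centralizer (K : Set G) :=
  le_centralizer_of_commutator_commutator_eq_bot hAK hcop hsolv
    (le_bot_iff.mp (le_trans (Subgroup.commutator_mono hKA le_rfl)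
      (le_of_eq (commutator_eq_bot_iff_le_centralizer'.mpr hAN))))

/-- An action trivial on `K / Φ(K)` by a group of order coprime to `|Φ(K)|` is trivial. -/
theorem le_centralizer_of_frattini [Finite G] {A K : Subgroup G}
    (hAK : A ≤ Subgroup.normalizer (K : Set G))
    (hcop : (Nat.card A).Coprime (Nat.card (frattini K)))
    (htriv : ∀ a ∈ A, ∀ k ∈ K, a * k * a⁻¹ * k⁻¹ ∈ (frattini K).map K.subtype) :
    A ≤ Subgroup.centralizer (K : Set G) := by
  let N := (frattini K).map K.subtype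
  have hNK : N ≤ K := Subgroup.map_subtype_le _
  have hKN : K ≤ Subgroup.normalizer (N : Set G) :=
    Subgroup.le_normalizer_of_normal_subgroupOf (hK := by
      rw [Subgroup.subgroupOf, Subgroup.comap_map_eq_self_of_injective Subtype.coe_injective]
      exact inferInstance) hNK
  have hAN : A ≤ Subgroup.normalizer (N : Set G) := by
    rw [Subgroup.le_normalizer_iff]
    intro a ha n hn
    have h := mul_mem (htriv a ha n (hNK hn)) hn
    simpa only [inv_mul_cancel_right] using h
  have := frattini_nilpotent (G := K)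
  have hNsol : Group.IsSolvable N := isSolvable_map K.subtype inferInstance
  have htop : (K ⊓ Subgroup.centralizer (A : Set G)).subgroupOf K ⊔ frattini K = ⊤ := by
    refine eq_top_iff.mpr fun ⟨k, hk⟩ _ => ?_
    obtain ⟨n, hn, hkn⟩ := exists_fixed_in_coset (k := k) hAN
      (by rwa [Subgroup.card_subtype]) (Or.inr hNsol) (fun a ha => by
        have h := (Subgroup.le_normalizer_iff.mp hKN) k⁻¹ (inv_mem hk) _ (htriv a ha k hk)
        simpa [mul_assoc] using h)
    obtain ⟨m, hm, rfl⟩ := hn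
    have h1 : (⟨k, hk⟩ * m : K) ∈ (K ⊓ Subgroup.centralizer (A : Set G)).subgroupOf K :=
      Subgroup.mem_subgroupOf.mpr (Subgroup.mem_inf.mpr ⟨SetLike.coe_mem _, hkn⟩)
    simpa using Subgroup.mul_mem_sup h1 (inv_mem hm)
  rw [Subgroup.le_centralizer_iff]
  exact le_trans (Subgroup.subgroupOf_eq_top.mp (frattini_nongenerating htop)) inf_le_right

/-- For abelian `V`, the fixed points and the commutator meet trivially. -/
theorem inf_centralizer_inf_commutator [Finite G] {A V : Subgroup G} [IsMulCommutative V]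
    (hAV : A ≤ Subgroup.normalizer (V : Set G)) (hcop : (Nat.card A).Coprime (Nat.card V)) :
    (V ⊓ Subgroup.centralizer (A : Set G)) ⊓ ⁅V, A⁆ = ⊥ := by
  classical
  have : Fintype A := Fintype.ofFinite _
  let ρ : A → V → V := fun a v =>
    ⟨(a : G) * v * (a : G)⁻¹, (Subgroup.le_normalizer_iff.mp hAV) a a.2 v v.2⟩
  let θ : V →* V :=
    { toFun := fun v => ∏ a : A, ρ a v
      map_one' := Finset.prod_eq_one fun a _ => Subtype.ext (by simp [ρ])
      map_mul' := fun v w => by
        rw [← Finset.prod_mul_distrib]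
        exact Finset.prod_congr rfl fun a _ => Subtype.ext (by simp [ρ, mul_assoc]) }
  have hker : ∀ b : A, ∀ v : V, θ (ρ b v) = θ v := fun b v =>
    Fintype.prod_equiv (Equiv.mulRight b) _ _ fun a => Subtype.ext (by simp [ρ, mul_assoc])
  rw [eq_bot_iff]
  intro x hx
  obtain ⟨⟨hxV, hxC⟩, hxA⟩ := hx
  have h1 : (⟨x, hxV⟩ : V) ^ Nat.card A = 1 := by
    have hθ : θ ⟨x, hxV⟩ = (⟨x, hxV⟩ : V) ^ Nat.card A := by
      change ∏ a : A, ρ a ⟨x, hxV⟩ = _
      rw [Finset.prod_congr rfl fun a _ => (Subtype.ext (by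
        change (a : G) * x * (a : G)⁻¹ = x
        rw [Subgroup.mem_centralizer_iff.mp hxC a a.2, mul_inv_cancel_right]) :
          ρ a ⟨x, hxV⟩ = ⟨x, hxV⟩), Finset.prod_const, Finset.card_univ, Nat.card_eq_fintype_card]
    rw [← hθ, ← MonoidHom.mem_ker]
    have hle : ⁅V, A⁆ ≤ θ.ker.map V.subtype := by
      rw [Subgroup.commutator_le]
      intro v hv a ha
      refine ⟨⟨v, hv⟩ * (ρ ⟨a, ha⟩ ⟨v, hv⟩)⁻¹, ?_, ?_⟩
      · rw [SetLike.mem_coe, MonoidHom.mem_ker, map_mul, map_inv, hker, mul_inv_cancel]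
      · change v * (a * v * a⁻¹)⁻¹ = ⁅v, a⁆
        rw [commutatorElement_def]; group
    obtain ⟨y, hy, rfl⟩ := hle hxA
    exact hy
  exact Subgroup.mem_bot.mpr (congrArg Subtype.val
    ((powCoprime hcop.symm).injective (h1.trans (one_pow _).symm) : (⟨x, hxV⟩ : V) = 1))

/-- An action fixing all elements of prime order of an abelian group of coprime order is trivial. -/
theorem le_centralizer_of_prime_order_abelian [Finite G] {A V : Subgroup G} [IsMulCommutative V]
    (hAV : A ≤ Subgroup.normalizer (V : Set G)) (hcop : (Nat.card A).Coprime (Nat.card V))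
    (hΩ : ∀ v ∈ V, (orderOf v).Prime → ∀ a ∈ A, a * v = v * a) :
    A ≤ Subgroup.centralizer (V : Set G) := by
  rw [← commutator_eq_bot_iff_le_centralizer']
  by_contra h
  obtain ⟨p, hp, hdvd⟩ := Nat.exists_prime_and_dvd
    (mt Subgroup.card_eq_one.mp h : Nat.card ↥⁅V, A⁆ ≠ 1)
  have := Fact.mk hp
  obtain ⟨⟨x, hx⟩, hord⟩ := exists_prime_orderOf_dvd_card' p hdvd
  rw [Subgroup.orderOf_mk] at hord
  have hxV := commutator_le_of_le_normalizer hAV hx
  have hmem : x ∈ (V ⊓ Subgroup.centralizer (A : Set G)) ⊓ ⁅V, A⁆ :=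
    ⟨⟨hxV, Subgroup.mem_centralizer_iff.mpr fun a ha => hΩ x hxV (hord ▸ hp) a ha⟩, hx⟩
  rw [inf_centralizer_inf_commutator hAV hcop, Subgroup.mem_bot] at hmem
  rw [hmem, orderOf_one] at hord
  exact hp.ne_one hord.symm

end Cfsg.Agent.Coprime
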