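import Cfsg.Agent.Lib.Coprime.Commutator
import Mathlib.Algebra.Group.Subgroup.Order

/-!
Facts on nilpotent groups used in coprime action, and the `P × Q` lemma.
-/

set_option autoImplicit false

namespace Cfsg.Agent.Coprime

open scoped Pointwise

variable {G : Type*} [Group G]

/-- In a finite nilpotent group the derived subgroup is contained in the Frattini subgroup. -/
theorem commutator_le_frattini (G : Type*) [Group G] [Finite G] [Group.IsNilpotent G] :
    commutator G ≤ frattini G := by
  change _ ≤ Order.radical (Subgroup G)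
  rw [Order.radical]
  refine le_iInf₂ fun M hM => ?_
  have := Subgroup.NormalizerCondition.normal_of_coatom M Group.normalizerCondition_of_isNilpotent hM
  obtain ⟨x, hx⟩ : ∃ x, x ∉ M := by
    by_contra h
    push Not at h
    exact hM.1 (eq_top_iff.mpr fun x _ => h x)
  refine Subgroup.Normal.commutator_le_of_self_sup_commutative_eq_top
    (H := Subgroup.zpowers x) (hM.2 _ (lt_of_le_of_ne le_sup_left fun h => hx ?_)) inferInstance
  exact h ▸ Subgroup.mem_sup_right (Subgroup.mem_zpowers x)

/-- In a finite nilpotent group a subgroup covering the abelianisation is everything. -/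
theorem eq_of_le_of_sup_commutator_eq [Finite G] {H K : Subgroup G} [Group.IsNilpotent K]
    (hle : H ≤ K) (h : H ⊔ ⁅K, K⁆ = K) : H = K := by
  refine le_antisymm hle (Subgroup.subgroupOf_eq_top.mp ?_)
  refine frattini_nongenerating (eq_top_iff.mpr ?_)
  calc (⊤ : Subgroup K) ≤ H.subgroupOf K ⊔ commutator K := by
        apply Subgroup.map_subtype_le_map_subtype.mp
        rw [Subgroup.map_sup, Subgroup.map_subgroupOf_eq_of_le hle,
          Subgroup.map_subtype_commutator, h]
        exact Subgroup.map_subtype_le _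
    _ ≤ _ := sup_le_sup_left (commutator_le_frattini K) _

/-- In a nilpotent subgroup `Y`, taking commutators with `Y` strictly decreases a nontrivial
subgroup that `Y` normalises. -/
theorem commutator_lt_of_isNilpotent {X Y : Subgroup G} [Group.IsNilpotent Y] (hXY : X ≤ Y)
    (hX : X ≠ ⊥) (hYX : Y ≤ Subgroup.normalizer (X : Set G)) : ⁅X, Y⁆ < X := by
  refine lt_of_le_of_ne (commutator_le_of_le_normalizer hYX) fun h => hX ?_
  obtain ⟨n, hn⟩ := (Subgroup.isNilpotent_iff_lowerCentralSeries Y).mp inferInstance
  have : ∀ m, X ≤ Y.lowerCentralSeries m := by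
    intro m
    induction m with
    | zero => simpa using hXY
    | succ m ih =>
      rw [Subgroup.lowerCentralSeries_succ]
      exact h ▸ Subgroup.commutator_mono ih le_rfl
  exact le_bot_iff.mp (hn ▸ this n)

/-- **Thompson's `P × Q` lemma.** -/
theorem le_centralizer_of_pxq [Finite G] {p : ℕ} [Fact p.Prime] {P Q U : Subgroup G}
    (hP : IsPGroup p P) (hQ : (Nat.card Q).Coprime p) (hU : IsPGroup p U)
    (hPQ : P ≤ Subgroup.centralizer (Q : Set G)) (hPU : P ≤ Subgroup.normalizer (U : Set G))
    (hQU : Q ≤ Subgroup.normalizer (U : Set G))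
    (hC : U ⊓ Subgroup.centralizer (P : Set G) ≤ Subgroup.centralizer (Q : Set G)) :
    Q ≤ Subgroup.centralizer (U : Set G) := by
  induction hn : Nat.card U using Nat.strongRecOn generalizing U with
  | ind n ih =>
    by_cases hbot : U = ⊥
    · subst hbot
      intro q _
      simp [Subgroup.mem_centralizer_iff]
    have hY : IsPGroup p ↥(U ⊔ P) := hU.to_sup_of_normal_left' hP hPU
    have := hY.isNilpotent
    have hlt : ⁅U, P⁆ < U := lt_of_le_of_lt (Subgroup.commutator_mono le_rfl le_sup_right)
      (commutator_lt_of_isNilpotent le_sup_left hbot (sup_le Subgroup.le_normalizer hPU))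
    have hPW : P ≤ Subgroup.normalizer ((⁅U, P⁆ : Subgroup G) : Set G) :=
      Subgroup.normalizer_commutator_ge_right U P
    have hQW : Q ≤ Subgroup.normalizer ((⁅U, P⁆ : Subgroup G) : Set G) := by
      intro q hq
      have hqP : q ∈ Subgroup.normalizer (P : Set G) :=
        Subgroup.centralizer_le_normalizer _ (Subgroup.le_centralizer_iff.mp hPQ hq)
      rw [← conj_smul_eq_self_iff, conj_smul_commutator, conj_smul_eq_self_iff.mpr (hQU hq),
        conj_smul_eq_self_iff.mpr hqP]
    have hcard : Nat.card ↥⁅U, P⁆ < n := hn ▸ lt_of_not_ge fun h =>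
      hlt.ne (Subgroup.eq_of_le_of_card_ge hlt.le h)
    have hW := ih _ hcard (hU.to_le hlt.le) hPW hQW
      (le_trans (inf_le_inf_right _ hlt.le) hC) rfl
    have h1 : ⁅⁅U, P⁆, Q⁆ = ⊥ := commutator_eq_bot_iff_le_centralizer'.mpr hW
    have h2 : ⁅⁅P, Q⁆, U⁆ = ⊥ := by
      rw [Subgroup.commutator_eq_bot_iff_le_centralizer.mpr hPQ, Subgroup.commutator_bot_left]
    have h3 := Subgroup.commutator_commutator_eq_bot_of_rotate h1 h2
    have h4 : ⁅U, Q⁆ ≤ U ⊓ Subgroup.centralizer (P : Set G) :=
      le_inf (commutator_le_of_le_normalizer hQU) (by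
        rw [Subgroup.commutator_comm]
        exact Subgroup.commutator_eq_bot_iff_le_centralizer.mp h3)
    obtain ⟨m, hm⟩ := IsPGroup.iff_card.mp hU
    refine le_centralizer_of_commutator_commutator_eq_bot hQU (hm ▸ hQ.pow_right m)
      (Or.inr (isSolvable_of_isPGroup hU)) ?_
    rw [Subgroup.commutator_eq_bot_iff_le_centralizer]
    exact h4.trans hC

end Cfsg.Agent.Coprime
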