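import Cfsg.Agent.Lib.Coprime.SchurZassenhaus

/-!
Coprime action, in the subgroup form: `A` normalises `K` inside an ambient finite group, the
orders of `A` and `K` are coprime and one of them is solvable. Fixed points of `A` on `K` are
`K ⊓ Subgroup.centralizer A`.
-/

set_option autoImplicit false

namespace Cfsg.Agent.Coprime

open scoped Pointwise

variable {G : Type*} [Group G]

/-- If `A` and a conjugate of `A` by `d` lie in a common complement, `d` centralises `A`. -/
theorem mem_centralizer_of_forall {A N : Subgroup G} (hd : Disjoint N A) {d : G}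
    (h1 : ∀ a ∈ A, d⁻¹ * a * d ∈ A) (h2 : ∀ a ∈ A, d⁻¹ * a * d * a⁻¹ ∈ N) :
    d ∈ Subgroup.centralizer (A : Set G) := by
  rw [Subgroup.mem_centralizer_iff]
  intro a ha
  have h : d⁻¹ * a * d * a⁻¹ = 1 :=
    Subgroup.disjoint_def.mp hd (h2 a ha) (mul_mem (h1 a ha) (inv_mem ha))
  rw [mul_inv_eq_one, mul_assoc, inv_mul_eq_iff_eq_mul] at h
  exact h

/-- A coset `k * N` of an `A`-invariant subgroup `N` of coprime order that is fixed by `A`
contains a fixed point of `A`. The element `k` need not normalise `N`. -/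
theorem exists_fixed_in_coset [Finite G] {A N : Subgroup G}
    (hAN : A ≤ Subgroup.normalizer (N : Set G)) (hcop : (Nat.card A).Coprime (Nat.card N))
    (hsolv : Group.IsSolvable A ∨ Group.IsSolvable N) {k : G}
    (hfix : ∀ a ∈ A, k⁻¹ * (a * k * a⁻¹) ∈ N) :
    ∃ n ∈ N, k * n ∈ Subgroup.centralizer (A : Set G) := by
  let A' := MulAut.conj k⁻¹ • A
  have hA'le : A' ≤ N ⊔ A := by
    intro x hx
    rw [mem_conj_smul, inv_inv] at hx
    have h := Subgroup.mul_mem_sup (hfix _ hx) hx
    simpa [mul_assoc] using h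
  have hnorm : N ⊔ A ≤ Subgroup.normalizer (N : Set G) := sup_le Subgroup.le_normalizer hAN
  have hA'N : A' ≤ Subgroup.normalizer (N : Set G) := hA'le.trans hnorm
  have hcA' : Nat.card A' = Nat.card A := card_conj_smul _ _
  have heq : N ⊔ A = N ⊔ A' := by
    refine (Subgroup.eq_of_le_of_card_ge (sup_le le_sup_left hA'le) ?_).symm
    rw [card_sup_of_coprime hAN hcop.symm, card_sup_of_coprime hA'N (hcA' ▸ hcop.symm), hcA']
  obtain ⟨n, hn, hconj⟩ := exists_conj_eq_of_sup_eq hA'N hAN heq.symm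
    (hcA' ▸ hcop.symm) hcop.symm
    (hsolv.symm.imp_right (isSolvable_conj_smul k⁻¹))
  refine ⟨n⁻¹, inv_mem hn, ?_⟩
  have h3 : ∀ a ∈ A, (k * n⁻¹)⁻¹ * a * (k * n⁻¹) ∈ A := by
    intro a ha
    have h : n * (k⁻¹ * a * k⁻¹⁻¹) * n⁻¹ ∈ A := hconj ▸ conj_mem_conj_smul (conj_mem_conj_smul ha)
    simpa [mul_assoc] using h
  refine mem_centralizer_of_forall (disjoint_of_coprime hcop.symm) h3 fun a ha => ?_
  have h := mul_mem (mul_mem hn (hfix a ha))
    ((Subgroup.le_normalizer_iff.mp hAN) a ha n⁻¹ (inv_mem hn))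
  simpa [mul_assoc] using h

theorem le_normalizer_sup_inf_centralizer {A K : Subgroup G}
    (hAK : A ≤ Subgroup.normalizer (K : Set G)) :
    A ≤ Subgroup.normalizer ((K ⊓ Subgroup.centralizer (A : Set G) : Subgroup G) : Set G) :=
  le_trans (le_inf hAK (Subgroup.le_normalizer_iff.mpr fun a ha c hc => by
      rw [Subgroup.mem_centralizer_iff.mp hc a ha, mul_inv_cancel_right]; exact hc))
    Subgroup.inf_normalizer_le_normalizer_inf

/-- If `K ⊔ M = K ⊔ A`, then `A` lies in a `K`-conjugate of `M`. -/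
theorem exists_le_conj_smul [Finite G] {A K M : Subgroup G}
    (hAK : A ≤ Subgroup.normalizer (K : Set G)) (hcop : (Nat.card A).Coprime (Nat.card K))
    (hsolv : Group.IsSolvable A ∨ Group.IsSolvable K) (hM : K ⊔ M = K ⊔ A) :
    ∃ k ∈ K, A ≤ MulAut.conj k • M := by
  have hMK : M ≤ Subgroup.normalizer (K : Set G) :=
    le_sup_right.trans (hM.le.trans (sup_le Subgroup.le_normalizer hAK))
  let N₀ := (K ⊓ M).subgroupOf M
  have hN₀n : N₀.Normal :=
    (Subgroup.normal_subgroupOf_iff_le_normalizer inf_le_right).mpr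
      (le_trans (le_inf hMK Subgroup.le_normalizer) Subgroup.inf_normalizer_le_normalizer_inf)
  have hcN₀ : Nat.card N₀ = Nat.card ↥(K ⊓ M) :=
    Nat.card_congr (Subgroup.subgroupOfEquivOfLe inf_le_right).toEquiv
  have hidx : N₀.index = Nat.card A := by
    have hKn : K.relIndex (K ⊔ M) = K.relIndex M := by
      rw [Subgroup.relIndex, Subgroup.relIndex]
      have := (Subgroup.normal_subgroupOf_iff_le_normalizer
        (le_sup_left : K ≤ K ⊔ M)).mpr (sup_le Subgroup.le_normalizer hMK)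
      have h1 : Nat.card K * (K.subgroupOf (K ⊔ M)).index = Nat.card ↥(K ⊔ M) := by
        rw [← Nat.card_congr (Subgroup.subgroupOfEquivOfLe (le_sup_left : K ≤ K ⊔ M)).toEquiv,
          Subgroup.card_mul_index]
      refine Nat.dvd_antisymm ?_ ?_
      · let f : M →* (↥(K ⊔ M)) ⧸ K.subgroupOf (K ⊔ M) :=
          (QuotientGroup.mk' _).comp (Subgroup.inclusion le_sup_right)
        have hf : Function.Surjective f := by
          intro q
          obtain ⟨⟨x, hx⟩, rfl⟩ := QuotientGroup.mk'_surjective _ q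
          obtain ⟨a, ha, b, hb, rfl⟩ := (mem_sup_of_le_normalizer hMK).mp hx
          refine ⟨⟨b, hb⟩, ?_⟩
          simp only [f, MonoidHom.comp_apply, QuotientGroup.mk'_apply]
          rw [QuotientGroup.eq, Subgroup.mem_subgroupOf]
          simpa [mul_assoc] using (Subgroup.le_normalizer_iff.mp hMK) b⁻¹ (inv_mem hb) a ha
        have hker : f.ker = K.subgroupOf M := by
          ext x; simp [f, MonoidHom.mem_ker, Subgroup.mem_subgroupOf]
        rw [← hker, Subgroup.index_ker, MonoidHom.range_eq_top.mpr hf, Subgroup.card_top,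
          Subgroup.index_eq_card]
      · exact Subgroup.index_comap (K.subgroupOf (K ⊔ M)) (Subgroup.inclusion le_sup_right) ▸
          Subgroup.relIndex_dvd_index_of_normal _ _
    have h1 : Nat.card K * K.relIndex (K ⊔ M) = Nat.card ↥(K ⊔ M) := by
      rw [Subgroup.relIndex,
        ← Nat.card_congr (Subgroup.subgroupOfEquivOfLe (le_sup_left : K ≤ K ⊔ M)).toEquiv,
        Subgroup.card_mul_index]
    rw [hM, card_sup_of_coprime hAK hcop.symm, ← hM] at h1
    rw [← Nat.eq_of_mul_eq_mul_left Nat.card_pos h1, hKn]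
    exact Subgroup.inf_relIndex_right K M
  obtain ⟨B, hB⟩ := Subgroup.exists_right_complement'_of_coprime (N := N₀) (by
    rw [hcN₀, hidx]
    exact hcop.symm.coprime_dvd_left (Subgroup.card_dvd_of_le inf_le_left))
  let B' := B.map M.subtype
  have hcB' : Nat.card B' = Nat.card A := by
    rw [Subgroup.card_subtype, ← hB.symm.index_eq_card, hidx]
  have hB'M : B' ≤ M := Subgroup.map_subtype_le B
  have heq : K ⊔ A = K ⊔ B' := by
    refine (Subgroup.eq_of_le_of_card_ge
      (sup_le le_sup_left (hB'M.trans (le_sup_right.trans hM.le))) ?_).symm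
    rw [card_sup_of_coprime hAK hcop.symm,
      card_sup_of_coprime (hB'M.trans hMK) (hcB' ▸ hcop.symm), hcB']
  obtain ⟨k, hk, hconj⟩ := exists_conj_eq_of_sup_eq hAK (hB'M.trans hMK) heq hcop.symm
    (hcB' ▸ hcop.symm) hsolv.symm
  refine ⟨k⁻¹, inv_mem hk, ?_⟩
  rw [Subgroup.subset_pointwise_smul_iff, ← map_inv, inv_inv, hconj]
  exact hB'M

/-- If `A` and its conjugate by `k ∈ K` both lie in `M`, then `k` may be corrected by an element of
`K ⊓ M` to centralise `A`. -/
theorem exists_mul_mem_centralizer [Finite G] {A K M : Subgroup G}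
    (hAK : A ≤ Subgroup.normalizer (K : Set G)) (hcop : (Nat.card A).Coprime (Nat.card K))
    (hsolv : Group.IsSolvable A ∨ Group.IsSolvable K) {k : G} (hk : k ∈ K) (hA : A ≤ M)
    (hkA : MulAut.conj k • A ≤ M) :
    ∃ m ∈ K ⊓ M, m * k ∈ K ⊓ Subgroup.centralizer (A : Set G) := by
  have hAN : A ≤ Subgroup.normalizer ((K ⊓ M : Subgroup G) : Set G) :=
    le_trans (le_inf hAK (hA.trans Subgroup.le_normalizer))
      Subgroup.inf_normalizer_le_normalizer_inf
  have hfix : ∀ a ∈ A, k⁻¹⁻¹ * (a * k⁻¹ * a⁻¹) ∈ K ⊓ M := by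
    intro a ha
    refine Subgroup.mem_inf.mpr ⟨?_, ?_⟩
    · have h := mul_mem hk ((Subgroup.le_normalizer_iff.mp hAK) a ha k⁻¹ (inv_mem hk))
      simpa using h
    · have h := mul_mem (hkA (conj_mem_conj_smul ha)) (inv_mem (hA ha))
      simpa [mul_assoc] using h
  obtain ⟨n, hn, hnk⟩ := exists_fixed_in_coset hAN
    (hcop.coprime_dvd_right (Subgroup.card_dvd_of_le inf_le_left))
    (hsolv.imp_right (isSolvable_of_le inf_le_left)) hfix
  refine ⟨n⁻¹, inv_mem hn, Subgroup.mem_inf.mpr ⟨mul_mem (inv_mem (Subgroup.mem_inf.mp hn).1) hk, ?_⟩⟩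
  simpa using inv_mem hnk

/-- **Glauberman's lemma**, existence of a fixed point. -/
theorem exists_fixedPoint [Finite G] {X : Type*} [MulAction G X] [Nonempty X] {A K : Subgroup G}
    (hAK : A ≤ Subgroup.normalizer (K : Set G)) (hcop : (Nat.card A).Coprime (Nat.card K))
    (hsolv : Group.IsSolvable A ∨ Group.IsSolvable K)
    (htrans : ∀ x y : X, ∃ k ∈ K, k • x = y) : ∃ x : X, ∀ a ∈ A, a • x = x := by
  obtain ⟨x⟩ := ‹Nonempty X›
  let M := MulAction.stabilizer G x ⊓ (K ⊔ A)
  have hM : K ⊔ M = K ⊔ A := by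
    refine le_antisymm (sup_le le_sup_left inf_le_right) (sup_le le_sup_left ?_)
    intro a ha
    obtain ⟨k, hk, hkx⟩ := htrans (a • x) x
    have h : k * a ∈ M :=
      Subgroup.mem_inf.mpr ⟨by rw [MulAction.mem_stabilizer_iff, mul_smul, hkx],
        Subgroup.mul_mem_sup hk ha⟩
    simpa [mul_assoc] using Subgroup.mul_mem_sup (inv_mem hk) h
  obtain ⟨k, _, hle⟩ := exists_le_conj_smul hAK hcop hsolv hM
  refine ⟨k • x, fun a ha => ?_⟩
  have h := MulAction.mem_stabilizer_iff.mp (mem_conj_smul.mp (hle ha)).1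
  calc a • k • x = k • (k⁻¹ * a * k) • x := by rw [← mul_smul, ← mul_smul]; group
    _ = k • x := by rw [h]

/-- **Glauberman's lemma**, transitivity of the centraliser on the fixed points. -/
theorem exists_centralizer_smul_eq [Finite G] {X : Type*} [MulAction G X] {A K : Subgroup G}
    (hAK : A ≤ Subgroup.normalizer (K : Set G)) (hcop : (Nat.card A).Coprime (Nat.card K))
    (hsolv : Group.IsSolvable A ∨ Group.IsSolvable K) {x y : X} (hx : ∀ a ∈ A, a • x = x)
    (hy : ∀ a ∈ A, a • y = y) {k : G} (hk : k ∈ K) (hkxy : k • x = y) :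
    ∃ c ∈ K ⊓ Subgroup.centralizer (A : Set G), c • x = y := by
  obtain ⟨m, hm, hmk⟩ := exists_mul_mem_centralizer (M := MulAction.stabilizer G y) hAK hcop hsolv
    hk hy (fun a ha => by
      rw [mem_conj_smul] at ha
      rw [MulAction.mem_stabilizer_iff, ← hkxy]
      conv_rhs => rw [← hx _ ha]
      rw [← mul_smul, ← mul_smul]; group)
  exact ⟨m * k, hmk, by rw [mul_smul, hkxy]; exact hm.2⟩

/-- An `A`-stable `K`-conjugacy class of subgroups contains an `A`-invariant member. -/
theorem exists_conj_invariant [Finite G] {A K : Subgroup G}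
    (hAK : A ≤ Subgroup.normalizer (K : Set G)) (hcop : (Nat.card A).Coprime (Nat.card K))
    (hsolv : Group.IsSolvable A ∨ Group.IsSolvable K) {H : Subgroup G}
    (hstab : ∀ a ∈ A, ∃ k ∈ K, MulAut.conj a • H = MulAut.conj k • H) :
    ∃ k ∈ K, A ≤ Subgroup.normalizer ((MulAut.conj k • H : Subgroup G) : Set G) := by
  let M := Subgroup.normalizer (H : Set G) ⊓ (K ⊔ A)
  have hM : K ⊔ M = K ⊔ A := by
    refine le_antisymm (sup_le le_sup_left inf_le_right) (sup_le le_sup_left ?_)
    intro a ha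
    obtain ⟨k, hk, hka⟩ := hstab a ha
    have h : k⁻¹ * a ∈ M :=
      Subgroup.mem_inf.mpr ⟨conj_smul_eq_self_iff.mp (by rw [conj_smul_mul, hka, conj_inv_smul_smul]),
        Subgroup.mul_mem_sup (inv_mem hk) ha⟩
    simpa using Subgroup.mul_mem_sup hk h
  obtain ⟨k, hk, hle⟩ := exists_le_conj_smul hAK hcop hsolv hM
  refine ⟨k, hk, ?_⟩
  rw [← conj_smul_normalizer]
  exact hle.trans (Subgroup.pointwise_smul_le_pointwise_smul_iff.mpr inf_le_left)

/-- `A`-invariant members of one `K`-conjugacy class are conjugate under the fixed points. -/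
theorem exists_centralizer_conj_eq [Finite G] {A K : Subgroup G}
    (hAK : A ≤ Subgroup.normalizer (K : Set G)) (hcop : (Nat.card A).Coprime (Nat.card K))
    (hsolv : Group.IsSolvable A ∨ Group.IsSolvable K) {H₁ H₂ : Subgroup G}
    (h₁ : A ≤ Subgroup.normalizer (H₁ : Set G)) (h₂ : A ≤ Subgroup.normalizer (H₂ : Set G))
    {k : G} (hk : k ∈ K) (heq : MulAut.conj k • H₁ = H₂) :
    ∃ c ∈ K ⊓ Subgroup.centralizer (A : Set G), MulAut.conj c • H₁ = H₂ := by
  obtain ⟨m, hm, hmk⟩ := exists_mul_mem_centralizer (M := Subgroup.normalizer (H₂ : Set G)) hAK hcop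
    hsolv hk h₂ (by
      rw [← heq, ← conj_smul_normalizer]
      exact Subgroup.pointwise_smul_le_pointwise_smul_iff.mpr h₁)
  exact ⟨m * k, hmk, by rw [conj_smul_mul, heq, conj_smul_eq_self_iff.mpr hm.2]⟩

/-- Fixed points in quotients: a coset of an invariant normal subgroup `N` of `K` fixed by `A`
contains a fixed point. -/
theorem exists_fixed_mod [Finite G] {A K N : Subgroup G}
    (hcop : (Nat.card A).Coprime (Nat.card K))
    (hsolv : Group.IsSolvable A ∨ Group.IsSolvable K) (hNK : N ≤ K)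
    (hKN : K ≤ Subgroup.normalizer (N : Set G)) (hAN : A ≤ Subgroup.normalizer (N : Set G))
    {k : G} (hk : k ∈ K) (hfix : ∀ a ∈ A, a * k * a⁻¹ * k⁻¹ ∈ N) :
    ∃ c ∈ K ⊓ Subgroup.centralizer (A : Set G), k⁻¹ * c ∈ N := by
  obtain ⟨n, hn, hkn⟩ := exists_fixed_in_coset (k := k) hAN
    (hcop.coprime_dvd_right (Subgroup.card_dvd_of_le hNK))
    (hsolv.imp_right (isSolvable_of_le hNK))
    (fun a ha => by
      have h := (Subgroup.le_normalizer_iff.mp hKN) k⁻¹ (inv_mem hk) _ (hfix a ha)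
      simpa [mul_assoc] using h)
  exact ⟨k * n, ⟨mul_mem hk (hNK hn), hkn⟩, by simpa using hn⟩

/-- Fixed points of the image are the image of the fixed points. -/
theorem map_inf_centralizer [Finite G] {G' : Type*} [Group G'] (f : G →* G') {A K : Subgroup G}
    (hAK : A ≤ Subgroup.normalizer (K : Set G)) (hcop : (Nat.card A).Coprime (Nat.card K))
    (hsolv : Group.IsSolvable A ∨ Group.IsSolvable K) :
    (K ⊓ Subgroup.centralizer (A : Set G)).map f =
      K.map f ⊓ Subgroup.centralizer ((A.map f : Subgroup G') : Set G') := by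
  refine le_antisymm (le_inf (Subgroup.map_mono inf_le_left) ?_) ?_
  · rintro _ ⟨x, hx, rfl⟩
    rw [Subgroup.mem_centralizer_iff]
    rintro _ ⟨a, ha, rfl⟩
    rw [← map_mul, ← map_mul, Subgroup.mem_centralizer_iff.mp hx.2 a ha]
  · rintro _ ⟨⟨k, hk, rfl⟩, hc⟩
    obtain ⟨c, hc', hkc⟩ := exists_fixed_mod (A := A) (N := K ⊓ f.ker) hcop hsolv inf_le_left
      (le_trans (le_inf Subgroup.le_normalizer Subgroup.le_normalizer_of_normal)
        Subgroup.inf_normalizer_le_normalizer_inf)
      (le_trans (le_inf hAK Subgroup.le_normalizer_of_normal)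
        Subgroup.inf_normalizer_le_normalizer_inf) hk
      (fun a ha => by
        refine Subgroup.mem_inf.mpr
          ⟨mul_mem ((Subgroup.le_normalizer_iff.mp hAK) a ha k hk) (inv_mem hk), ?_⟩
        rw [MonoidHom.mem_ker, map_mul, map_mul, map_mul, map_inv, map_inv,
          Subgroup.mem_centralizer_iff.mp hc (f a) ⟨a, ha, rfl⟩]
        group)
    refine ⟨c, hc', ?_⟩
    have h : f (k⁻¹ * c) = 1 := hkc.2
    rwa [map_mul, map_inv, inv_mul_eq_one, eq_comm] at h

end Cfsg.Agent.Coprime
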