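import Cfsg.Agent.Lib.Coprime.Basic

/-!
Conjugacy of complements in the Schur–Zassenhaus theorem.
-/

set_option autoImplicit false

namespace Cfsg.Agent.Coprime

open scoped Pointwise

variable {G : Type*} [Group G]

/-- Complements of an abelian normal Hall subgroup are conjugate. -/
theorem complement'_conj_of_abelian [Finite G] {N H K : Subgroup G} [N.Normal]
    [IsMulCommutative N] (hcop : (Nat.card N).Coprime N.index)
    (hH : Subgroup.IsComplement' N H) (hK : Subgroup.IsComplement' N K) :
    ∃ n ∈ N, MulAut.conj n • H = K := by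
  classical
  have key : ∀ L : Subgroup G, Subgroup.IsComplement' N L →
      ∃ α : N.QuotientDiff, MulAction.stabilizer G α = L := by
    intro L hL
    let T : N.LeftTransversal := ⟨(L : Set G), hL.symm⟩
    let α₀ : N.QuotientDiff := Quotient.mk'' T
    refine ⟨α₀, ?_⟩
    have hle : L ≤ MulAction.stabilizer G α₀ := by
      intro l hl
      rw [MulAction.mem_stabilizer_iff]
      refine congr_arg Quotient.mk'' (Subtype.ext ?_)
      change MulOpposite.op l⁻¹ • (L : Set G) = (L : Set G)
      ext x
      simp [Set.mem_smul_set_iff_inv_smul_mem, Subgroup.mul_mem_cancel_right, hl]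
    refine (Subgroup.eq_of_le_of_card_ge hle (le_of_eq ?_)).symm
    have h1 := (Subgroup.isComplement'_stabilizer_of_coprime
      (α := α₀) hcop).card_mul_card
    rw [← hL.card_mul_card] at h1
    exact Nat.eq_of_mul_eq_mul_left Nat.card_pos h1
  obtain ⟨α, hα⟩ := key H hH
  obtain ⟨β, hβ⟩ := key K hK
  obtain ⟨n, hn⟩ := Subgroup.exists_smul_eq hcop α β
  refine ⟨n, n.2, ?_⟩
  have hn' : (n : G) • α = β := hn
  rw [← hα, ← hβ, ← hn', MulAction.stabilizer_smul_eq_stabilizer_map_conj]
  rfl

theorem exists_le_prime_relIndex [Finite G] {H : Subgroup G} (hs : Group.IsSolvable H)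
    (hH : H ≠ ⊥) :
    ∃ H₁ : Subgroup G, H₁ ≤ H ∧ H ≤ Subgroup.normalizer (H₁ : Set G) ∧
      (H₁.relIndex H).Prime := by
  have : Nontrivial H := (Subgroup.nontrivial_iff_ne_bot H).mpr hH
  obtain ⟨M, hM, hcM⟩ :=
    (eq_top_or_exists_le_coatom (commutator H)).resolve_left
      (Group.IsSolvable.commutator_lt_top_of_nontrivial H).ne
  have hMn : M.Normal := Subgroup.Normal.of_commutator_le H hcM
  have hprime : M.index.Prime := by
    have h1 : 1 < M.index := Subgroup.one_lt_index_of_ne_top hM.1
    obtain ⟨p, hp, hdvd⟩ := Nat.exists_prime_and_dvd h1.ne'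
    have := Fact.mk hp
    obtain ⟨x, hx⟩ := exists_prime_orderOf_dvd_card' (G := H ⧸ M) p hdvd
    have htop : (Subgroup.zpowers x).comap (QuotientGroup.mk' M) = ⊤ := by
      refine hM.2 _ (lt_of_le_of_ne ?_ ?_)
      · intro m hm
        rw [Subgroup.mem_comap, QuotientGroup.mk'_apply, (QuotientGroup.eq_one_iff m).mpr hm]
        exact one_mem _
      · intro heq
        obtain ⟨y, rfl⟩ := QuotientGroup.mk'_surjective M x
        have hy : y ∈ M := by
          rw [heq, Subgroup.mem_comap]; exact Subgroup.mem_zpowers _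
        rw [QuotientGroup.mk'_apply, (QuotientGroup.eq_one_iff y).mpr hy, orderOf_one] at hx
        exact hp.ne_one hx.symm
    have htop' : Subgroup.zpowers x = ⊤ := by
      rw [← Subgroup.map_comap_eq_self_of_surjective (QuotientGroup.mk'_surjective M)
        (Subgroup.zpowers x), htop, Subgroup.map_top_of_surjective _
        (QuotientGroup.mk'_surjective M)]
    rw [← hx, ← Nat.card_zpowers, htop', Subgroup.card_top, ← Subgroup.index_eq_card] at hp
    exact hp
  refine ⟨M.map H.subtype, Subgroup.map_subtype_le M, ?_, ?_⟩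
  · apply Subgroup.le_normalizer_of_normal_subgroupOf (hK := ?_) (Subgroup.map_subtype_le M)
    rw [Subgroup.subgroupOf, Subgroup.comap_map_eq_self_of_injective Subtype.coe_injective]
    exact hMn
  · rwa [Subgroup.relIndex, Subgroup.subgroupOf,
      Subgroup.comap_map_eq_self_of_injective Subtype.coe_injective]

/-- Conjugacy of complements, solvable complement. -/
theorem conj_of_solvable_right [Finite G] :
    ∀ (n : ℕ) (N H K : Subgroup G), Nat.card H = n →
      H ≤ Subgroup.normalizer (N : Set G) → K ≤ Subgroup.normalizer (N : Set G) →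
      N ⊔ H = N ⊔ K → (Nat.card N).Coprime (Nat.card H) →
      (Nat.card N).Coprime (Nat.card K) → Group.IsSolvable H →
      ∃ x ∈ N, MulAut.conj x • H = K := by
  intro n
  induction n using Nat.strongRecOn with | ind n ih => ?_
  intro N H K hn hHN hKN heq hcH hcK hs
  have hcard : Nat.card H = Nat.card K := by
    have h1 := card_sup_of_coprime hHN hcH
    rw [heq, card_sup_of_coprime hKN hcK] at h1
    exact (Nat.eq_of_mul_eq_mul_left Nat.card_pos h1).symm
  by_cases hH : H = ⊥
  · subst hH
    refine ⟨1, one_mem _, ?_⟩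
    rw [conj_smul_one]
    exact (Subgroup.card_eq_one.mp (hcard.symm.trans Subgroup.card_bot)).symm
  obtain ⟨H₁, hle, hnorm, hp⟩ := exists_le_prime_relIndex hs hH
  have hcardH : Nat.card H₁ * H₁.relIndex H = Nat.card H := by
    rw [Subgroup.relIndex, ← Nat.card_congr (Subgroup.subgroupOfEquivOfLe hle).toEquiv,
      Subgroup.card_mul_index]
  have hlt : Nat.card H₁ < n := by
    rw [← hn, ← hcardH]
    exact lt_mul_of_one_lt_right Nat.card_pos hp.one_lt
  have hcH₁ : (Nat.card N).Coprime (Nat.card H₁) :=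
    hcH.coprime_dvd_right (Subgroup.card_dvd_of_le hle)
  have hH₁N : H₁ ≤ Subgroup.normalizer (N : Set G) := hle.trans hHN
  let L := N ⊔ H₁
  let K₁ := K ⊓ L
  have hLeq : N ⊔ K₁ = L := by
    refine le_antisymm (sup_le le_sup_left inf_le_right) ?_
    intro x hx
    have hx' : x ∈ N ⊔ K := heq ▸ (sup_le_sup_left hle N) hx
    obtain ⟨a, ha, b, hb, rfl⟩ := (mem_sup_of_le_normalizer hKN).mp hx'
    refine Subgroup.mul_mem_sup ha ⟨hb, ?_⟩
    exact (mul_mem_cancel_left (le_sup_left (b := H₁) ha)).mp hx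
  obtain ⟨a, ha, hconj⟩ := ih _ hlt N H₁ K₁ rfl hH₁N (inf_le_left.trans hKN) hLeq.symm hcH₁
    (hcK.coprime_dvd_right (Subgroup.card_dvd_of_le inf_le_left)) (isSolvable_of_le hle hs)
  -- both `K` and the conjugate of `H` normalise `K₁`
  let H' := MulAut.conj a • H
  have hH'norm : H' ≤ Subgroup.normalizer (K₁ : Set G) := by
    rw [← hconj, ← conj_smul_normalizer]
    exact Subgroup.pointwise_smul_le_pointwise_smul_iff.mpr hnorm
  have hKnorm : K ≤ Subgroup.normalizer (K₁ : Set G) := by
    have hHL : H ≤ Subgroup.normalizer (L : Set G) := by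
      intro h hh
      rw [← conj_smul_eq_self_iff, Subgroup.smul_sup, conj_smul_eq_self_iff.mpr (hHN hh),
        conj_smul_eq_self_iff.mpr (hnorm hh)]
    have hKL : K ≤ Subgroup.normalizer (L : Set G) :=
      le_trans (le_trans le_sup_right (le_of_eq heq.symm))
        (sup_le (le_trans le_sup_left Subgroup.le_normalizer) hHL)
    exact le_trans (le_inf Subgroup.le_normalizer hKL) Subgroup.inf_normalizer_le_normalizer_inf
  have haN : MulAut.conj a • N = N := conj_smul_eq_self_iff.mpr (Subgroup.le_normalizer ha)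
  have hH'N : H' ≤ Subgroup.normalizer (N : Set G) := by
    conv_rhs => rw [← haN, ← conj_smul_normalizer]
    exact Subgroup.pointwise_smul_le_pointwise_smul_iff.mpr hHN
  have hH'sup : N ⊔ H' = N ⊔ H := by
    conv_lhs => rw [← haN, ← Subgroup.smul_sup]
    exact Subgroup.conj_smul_eq_self_of_mem (Subgroup.mem_sup_left ha)
  let M := (N ⊔ H) ⊓ Subgroup.normalizer (K₁ : Set G)
  have hH'M : H' ≤ M := le_inf (hH'sup ▸ le_sup_right) hH'norm
  have hKM : K ≤ M := le_inf (heq ▸ le_sup_right) hKnorm
  let p := H₁.relIndex H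
  have := Fact.mk hp
  have hpH : p ∣ Nat.card H := Dvd.intro_left _ hcardH
  have hfac : (Nat.card ↥(N ⊔ H)).factorization p = (Nat.card H).factorization p := by
    rw [card_sup_of_coprime hHN hcH, Nat.factorization_mul Nat.card_pos.ne' Nat.card_pos.ne',
      Finsupp.add_apply, Nat.factorization_eq_zero_of_not_dvd, zero_add]
    exact fun h => hp.ne_one (Nat.eq_one_of_dvd_coprimes hcH h hpH)
  have hsyl : ∀ Y : Subgroup G, Y ≤ M → Nat.card Y = Nat.card H →
      ∀ P : Sylow p Y, ∃ Q : Sylow p M, Q.1.map M.subtype = P.1.map Y.subtype := by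
    intro Y hYM hY P
    let P' : Subgroup M := P.1.map (Subgroup.inclusion hYM)
    have hP' : Nat.card P' = Nat.card P :=
      Subgroup.card_map_of_injective (Subgroup.inclusion_injective hYM)
    have hcardP : Nat.card P' = p ^ (Nat.card M).factorization p := by
      rw [hP', P.card_eq_multiplicity]
      congr 1
      refine le_antisymm ?_ ?_
      · exact (Nat.factorization_le_iff_dvd Nat.card_pos.ne' Nat.card_pos.ne').mpr
          (Subgroup.card_dvd_of_le hYM) p
      · rw [hY, ← hfac]
        exact (Nat.factorization_le_iff_dvd Nat.card_pos.ne' Nat.card_pos.ne').mpr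
          (Subgroup.card_dvd_of_le inf_le_left) p
    refine ⟨Sylow.ofCard P' hcardP, ?_⟩
    rw [Sylow.coe_ofCard, Subgroup.map_map, Subgroup.subtype_comp_inclusion]
  have hcH' : Nat.card H' = Nat.card H := card_conj_smul a H
  obtain ⟨P⟩ : Nonempty (Sylow p H') := inferInstance
  obtain ⟨R⟩ : Nonempty (Sylow p K) := inferInstance
  obtain ⟨P', hP'⟩ := hsyl H' hH'M hcH' P
  obtain ⟨R', hR'⟩ := hsyl K hKM hcard.symm R
  obtain ⟨m, hm⟩ := MulAction.exists_smul_eq M P' R'
  have hPR : MulAut.conj (m : G) • P.1.map H'.subtype = R.1.map K.subtype := by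
    rw [← hP', ← hR', ← hm, Sylow.coe_subgroup_smul, map_conj_smul]
    rfl
  have hK₁H' : K₁ ≤ H' := hconj ▸ Subgroup.pointwise_smul_le_pointwise_smul_iff.mpr hle
  have hmK₁ : MulAut.conj (m : G) • K₁ = K₁ := conj_smul_eq_self_iff.mpr m.2.2
  have hKle : K ≤ MulAut.conj (m : G) • H' := by
    have h1 : K₁ ⊔ R.1.map K.subtype ≤ MulAut.conj (m : G) • H' :=
      sup_le (hmK₁ ▸ Subgroup.pointwise_smul_le_pointwise_smul_iff.mpr hK₁H')
        (hPR ▸ Subgroup.pointwise_smul_le_pointwise_smul_iff.mpr (Subgroup.map_subtype_le _))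
    refine le_trans (Subgroup.relIndex_eq_one.mp (Nat.eq_one_of_dvd_coprimes
      (hp.coprime_iff_not_dvd.mpr R.not_dvd_index) ?_ ?_)) h1
    · have h2 : Nat.card K₁ = Nat.card H₁ := by rw [← hconj, card_conj_smul]
      have h3 : K₁.relIndex K = p := by
        have h4 : Nat.card K₁ * K₁.relIndex K = Nat.card K := by
          rw [Subgroup.relIndex, ← Nat.card_congr (Subgroup.subgroupOfEquivOfLe
            (inf_le_left : K₁ ≤ K)).toEquiv, Subgroup.card_mul_index]
        rw [h2, ← hcard, ← hcardH] at h4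
        exact Nat.eq_of_mul_eq_mul_left Nat.card_pos h4
      have h5 := Subgroup.relIndex_dvd_of_le_left K
        (le_sup_left : K₁ ≤ K₁ ⊔ R.1.map K.subtype)
      rwa [h3] at h5
    · have h3 : (R.1.map K.subtype).relIndex K = R.1.index := by
        rw [Subgroup.relIndex, Subgroup.subgroupOf,
          Subgroup.comap_map_eq_self_of_injective Subtype.coe_injective]
      have h5 := Subgroup.relIndex_dvd_of_le_left K
        (le_sup_right : R.1.map K.subtype ≤ K₁ ⊔ R.1.map K.subtype)
      rwa [h3] at h5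
  have hfinal : MulAut.conj (m : G) • H' = K :=
    (Subgroup.eq_of_le_of_card_ge hKle (by rw [card_conj_smul, hcH', hcard])).symm
  obtain ⟨b, hb, h, hh, hbh⟩ :=
    (mem_sup_of_le_normalizer hH'N).mp (hH'sup.symm ▸ m.2.1 : (m : G) ∈ N ⊔ H')
  refine ⟨b * a, mul_mem hb ha, ?_⟩
  rw [← hbh, conj_smul_mul, Subgroup.conj_smul_eq_self_of_mem hh] at hfinal
  rw [conj_smul_mul]
  exact hfinal

/-- Conjugacy of complements, solvable kernel. -/
theorem conj_of_solvable_left [Finite G] :
    ∀ (n : ℕ) (N H K : Subgroup G), Nat.card N = n →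
      H ≤ Subgroup.normalizer (N : Set G) → K ≤ Subgroup.normalizer (N : Set G) →
      N ⊔ H = N ⊔ K → (Nat.card N).Coprime (Nat.card H) →
      (Nat.card N).Coprime (Nat.card K) → Group.IsSolvable N →
      ∃ x ∈ N, MulAut.conj x • H = K := by
  intro n
  induction n using Nat.strongRecOn with | ind n ih => ?_
  intro N H K hn hHN hKN heq hcH hcK hs
  by_cases hN : N = ⊥
  · subst hN
    exact ⟨1, one_mem _, by rw [conj_smul_one]; simpa using heq⟩
  let M := ⁅N, N⁆
  have hMN : M < N := commutator_lt_of_isSolvable hs hN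
  have hnM : ∀ X : Subgroup G, X ≤ Subgroup.normalizer (N : Set G) →
      X ≤ Subgroup.normalizer (M : Set G) := by
    intro X hX x hx
    rw [← conj_smul_eq_self_iff, conj_smul_commutator, conj_smul_eq_self_iff.mpr (hX hx)]
  let U := N ⊔ H
  have hNU : N ≤ U := le_sup_left
  have hHU : H ≤ U := le_sup_right
  have hKU : K ≤ U := le_sup_right.trans heq.symm.le
  have hMn : (M.subgroupOf U).Normal :=
    (Subgroup.normal_subgroupOf_iff_le_normalizer (hMN.le.trans hNU)).mpr
      (sup_le (hnM N Subgroup.le_normalizer) (hnM H hHN))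
  let π : U →* U ⧸ M.subgroupOf U := QuotientGroup.mk' _
  have hπ : Function.Surjective π := QuotientGroup.mk'_surjective _
  let N' := (N.subgroupOf U).map π
  have hNn : (N.subgroupOf U).Normal :=
    (Subgroup.normal_subgroupOf_iff_le_normalizer hNU).mpr (sup_le Subgroup.le_normalizer hHN)
  have : N'.Normal := hNn.map π hπ
  have : IsMulCommutative N' := by
    rw [← Subgroup.commutator_self_eq_bot_iff, ← Subgroup.map_commutator, Subgroup.map_eq_bot_iff,
      QuotientGroup.ker_mk']
    intro x hx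
    have hle : (⁅N.subgroupOf U, N.subgroupOf U⁆).map U.subtype ≤ M := by
      rw [Subgroup.map_commutator]
      exact Subgroup.commutator_mono (Subgroup.map_comap_le _ _) (Subgroup.map_comap_le _ _)
    exact hle ⟨x, hx, rfl⟩
  have hcompl : ∀ X : Subgroup G, X ≤ U → N ⊔ X = U → (Nat.card N).Coprime (Nat.card X) →
      Subgroup.IsComplement' N' ((X.subgroupOf U).map π) := by
    intro X hXU hsup hc
    have htop : N' ⊔ (X.subgroupOf U).map π = ⊤ := by
      rw [← Subgroup.map_sup, ← Subgroup.subgroupOf_sup hNU hXU, hsup, Subgroup.subgroupOf_self,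
        Subgroup.map_top_of_surjective π hπ]
    refine Subgroup.isComplement'_of_disjoint_and_mul_eq_univ (disjoint_of_coprime ?_) ?_
    · refine (hc.coprime_dvd_left ?_).coprime_dvd_right ?_
      · exact (Subgroup.card_map_dvd _ π).trans
          (Nat.card_congr (Subgroup.subgroupOfEquivOfLe hNU).toEquiv).dvd
      · exact (Subgroup.card_map_dvd _ π).trans
          (Nat.card_congr (Subgroup.subgroupOfEquivOfLe hXU).toEquiv).dvd
    · rw [← Subgroup.normal_mul, htop, Subgroup.coe_top]
  have hc1 := hcompl H hHU rfl hcH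
  have hc2 := hcompl K hKU heq.symm hcK
  have hcop : (Nat.card N').Coprime N'.index := by
    rw [hc1.symm.index_eq_card]
    exact (hcH.coprime_dvd_left ((Subgroup.card_map_dvd _ π).trans
      (Nat.card_congr (Subgroup.subgroupOfEquivOfLe hNU).toEquiv).dvd)).coprime_dvd_right
      ((Subgroup.card_map_dvd _ π).trans
      (Nat.card_congr (Subgroup.subgroupOfEquivOfLe hHU).toEquiv).dvd)
  obtain ⟨z, ⟨⟨a, haU⟩, haN, rfl⟩, hz⟩ := complement'_conj_of_abelian hcop hc1 hc2
  rw [← map_conj_smul, Subgroup.map_eq_map_iff, QuotientGroup.ker_mk'] at hz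
  have hz' := congrArg (Subgroup.map U.subtype) hz
  have hsub : ∀ X : Subgroup G, X ≤ U → (X.subgroupOf U).map U.subtype = X := fun X hX =>
    Subgroup.map_subgroupOf_eq_of_le hX
  rw [Subgroup.map_sup, Subgroup.map_sup, map_conj_smul, hsub H hHU, hsub K hKU,
    hsub M (hMN.le.trans hNU)] at hz'
  change MulAut.conj a • H ⊔ M = K ⊔ M at hz'
  have haN' : a ∈ N := haN
  have hH'N : MulAut.conj a • H ≤ Subgroup.normalizer (N : Set G) := by
    conv_rhs => rw [← conj_smul_eq_self_iff.mpr (Subgroup.le_normalizer haN'),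
      ← conj_smul_normalizer]
    exact Subgroup.pointwise_smul_le_pointwise_smul_iff.mpr hHN
  have hdvd := Subgroup.card_dvd_of_le hMN.le
  obtain ⟨b, hb, hb'⟩ := ih (Nat.card M) (hn ▸ lt_of_not_ge fun h =>
      hMN.ne (Subgroup.eq_of_le_of_card_ge hMN.le h)) M (MulAut.conj a • H) K rfl
    (hnM _ hH'N) (hnM _ hKN) (by rw [sup_comm, hz', sup_comm])
    (by rw [card_conj_smul]; exact hcH.coprime_dvd_left hdvd) (hcK.coprime_dvd_left hdvd)
    (isSolvable_of_le hMN.le hs)
  exact ⟨b * a, mul_mem (hMN.le hb) haN', by rw [conj_smul_mul, hb']⟩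

/-- **Schur–Zassenhaus conjugacy**: two subgroups that complement `N` in the same group, of order
coprime to that of `N`, are conjugate under `N` if `N` or the complement is solvable. -/
theorem exists_conj_eq_of_sup_eq [Finite G] {N H K : Subgroup G}
    (hHN : H ≤ Subgroup.normalizer (N : Set G)) (hKN : K ≤ Subgroup.normalizer (N : Set G))
    (heq : N ⊔ H = N ⊔ K) (hcH : (Nat.card N).Coprime (Nat.card H))
    (hcK : (Nat.card N).Coprime (Nat.card K))
    (hsolv : Group.IsSolvable N ∨ Group.IsSolvable H) :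
    ∃ x ∈ N, MulAut.conj x • H = K :=
  hsolv.elim (conj_of_solvable_left _ N H K rfl hHN hKN heq hcH hcK)
    (conj_of_solvable_right _ N H K rfl hHN hKN heq hcH hcK)

/-- Complements of a normal Hall subgroup `N` are conjugate if `N` or `G ⧸ N` is solvable. -/
theorem complement'_conj [Finite G] {N H K : Subgroup G} [N.Normal]
    (hcop : (Nat.card N).Coprime N.index)
    (hsolv : Group.IsSolvable N ∨ Group.IsSolvable (G ⧸ N))
    (hH : Subgroup.IsComplement' N H) (hK : Subgroup.IsComplement' N K) :
    ∃ x ∈ N, MulAut.conj x • H = K :=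
  exists_conj_eq_of_sup_eq Subgroup.le_normalizer_of_normal Subgroup.le_normalizer_of_normal
    (by rw [hH.sup_eq_top, hK.sup_eq_top]) (by rwa [← hH.symm.index_eq_card])
    (by rwa [← hK.symm.index_eq_card])
    (hsolv.imp_right fun (h : Group.IsSolvable (G ⧸ N)) =>
      have : Group.IsSolvable (G ⧸ N) := h
      Group.isSolvable_of_surjective (f := hH.symm.QuotientMulEquiv.toMonoidHom)
        hH.symm.QuotientMulEquiv.surjective)

end Cfsg.Agent.Coprime
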