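import Cfsg.Agent.Lib.Coprime.OmegaDetect
import Cfsg.Agent.Lib.Coprime.PGroup
import Mathlib

/-!
A `p`-element acting without fixed points on a `p'`-group `R`, both acting on a `p`-group in which
the element fixes at most a subgroup of order `p` (elements of order `p`) centralized by `R`:
then, for odd `p`, `R` acts trivially.
-/

set_option autoImplicit false

namespace Cfsg.Agent.Coprime.FrobeniusPGroup

open scoped commutatorElement

/-- Averaging over the group `R⟨b⟩`, a union of `R` and the conjugates of `⟨b⟩`. -/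
theorem mem_of_norms {M : Type*} [Group M] [Finite M] {W : Type*} [CommGroup W] [Finite W]
    (ψ : M →* MulAut W) (R : Subgroup M) (b : M) {p : ℕ} [Fact p.Prime] (hb : b ^ p = 1)
    (hbR : ∀ r ∈ R, b * r * b⁻¹ ∈ R) (hfpf : ∀ r ∈ R, b * r = r * b → r = 1)
    (hcop : (Nat.card R).Coprime (Nat.card W)) (H : Subgroup W)
    (hH : ∀ r ∈ R, ∀ w ∈ H, ψ r w ∈ H)
    (hN : ∀ w, ∏ i ∈ Finset.range p, ψ (b ^ i) w ∈ H)
    (hR : ∀ w, (∀ r ∈ R, ψ r w = w) → w = 1) (w : W) : w ∈ H := by
  classical
  have := Fintype.ofFinite ↥R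
  have hp := (Fact.out : p.Prime)
  have hRw : ∀ w, ∏ r : ↥R, ψ (r : M) w = 1 := by
    intro w
    refine hR _ fun r hr => ?_
    rw [map_prod]
    refine Fintype.prod_equiv (Equiv.mulLeft (⟨r, hr⟩ : ↥R)) _ _ fun s => ?_
    simp
  have hbp : ∀ i : ℕ, ∀ r ∈ R, b ^ i * r * (b ^ i)⁻¹ ∈ R := by
    intro i
    induction i with
    | zero => intro r hr; simpa using hr
    | succ i ih =>
      intro r hr
      rw [show b ^ (i + 1) * r * (b ^ (i + 1))⁻¹ = b * (b ^ i * r * (b ^ i)⁻¹) * b⁻¹ by
        rw [pow_succ' b]; group]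
      exact hbR _ (ih r hr)
  have hfix : ∀ i ∈ Finset.range p, i ≠ 0 → ∀ r ∈ R, b ^ i * r = r * b ^ i → r = 1 := by
    intro i hi hi0 r hr h
    obtain ⟨k, -, hk⟩ := Nat.exists_mul_mod_eq_one_of_coprime
      ((hp.coprime_iff_not_dvd.mpr fun hd => hi0
        (Nat.eq_zero_of_dvd_of_lt hd (Finset.mem_range.mp hi))).symm) hp.one_lt
    refine hfpf r hr ?_
    have h1 : (b ^ i) ^ k = b := by
      rw [← pow_mul, ← Nat.mod_add_div (i * k) p, hk, pow_add, pow_one, pow_mul, hb, one_pow, mul_one]
    have h2 : Commute (b ^ i) r := h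
    rw [← h1]
    exact (h2.pow_left k).eq
  -- every conjugate of `⟨b⟩` has its norm in `H`
  have hsum : ∀ r : ↥R, ∏ i ∈ Finset.range p, ψ ((r : M) * b ^ i * (r : M)⁻¹) w ∈ H := by
    intro r
    have h1 := hH r r.2 _ (hN (ψ (r : M)⁻¹ w))
    rw [map_prod] at h1
    simpa [map_mul, MulAut.mul_apply] using h1
  have hall : ∏ r : ↥R, ∏ i ∈ Finset.range p, ψ ((r : M) * b ^ i * (r : M)⁻¹) w ∈ H :=
    prod_mem fun r _ => hsum r
  rw [Finset.prod_comm, Finset.prod_eq_single 0] at hall
  · simp only [pow_zero, mul_one, mul_inv_cancel, map_one, MulAut.one_apply, Finset.prod_const,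
      Finset.card_univ] at hall
    rw [← Nat.card_eq_fintype_card] at hall
    have hk := (powCoprime hcop.symm).apply_symm_apply w
    obtain ⟨m, hm⟩ : ∃ m : ℕ, w = (w ^ Nat.card ↥R) ^ m := by
      have hc : (orderOf w).Coprime (Nat.card ↥R) :=
        hcop.symm.coprime_dvd_left (orderOf_dvd_natCard w)
      obtain ⟨m, hm⟩ := exists_pow_eq_self_of_coprime hc.symm
      exact ⟨m, hm.symm⟩
    rw [hm]
    exact pow_mem hall m
  · intro i hi hi0
    have hinj : Function.Injective fun r : ↥R =>
        (⟨(r : M) * (b ^ i * (r : M)⁻¹ * (b ^ i)⁻¹), mul_mem r.2 (hbp i _ (inv_mem r.2))⟩ : ↥R) := by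
      intro r s h
      have h1 : (r : M) * (b ^ i * (r : M)⁻¹ * (b ^ i)⁻¹) = (s : M) * (b ^ i * (s : M)⁻¹ * (b ^ i)⁻¹) :=
        congrArg Subtype.val h
      have h2 := hfix i hi hi0 _ (mul_mem (inv_mem s.2) r.2) (by
        calc b ^ i * ((s : M)⁻¹ * r) = (s : M)⁻¹ * ((s : M) * (b ^ i * (s : M)⁻¹ * (b ^ i)⁻¹)) * b ^ i * b ^ 0 * r := by group
          _ = (s : M)⁻¹ * ((r : M) * (b ^ i * (r : M)⁻¹ * (b ^ i)⁻¹)) * b ^ i * b ^ 0 * r := by rw [h1]
          _ = _ := by group)
      exact Subtype.ext (inv_mul_eq_one.mp h2).symm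
    rw [← hRw (ψ (b ^ i) w)]
    refine Fintype.prod_bijective _ (Finite.injective_iff_bijective.mp hinj) _ _ fun r => ?_
    show ψ ((r : M) * b ^ i * (r : M)⁻¹) w =
      ψ ((r : M) * (b ^ i * (r : M)⁻¹ * (b ^ i)⁻¹)) (ψ (b ^ i) w)
    rw [← MulAut.mul_apply, ← map_mul]
    congr 2
    group
  · intro h
    exact absurd (Finset.mem_range.mpr hp.pos) h

/-- An invariant alternating pairing kills the norms when the fixed points have order at most `p`. -/
theorem pairing_norm_eq_one {W X : Type*} [CommGroup W] [Finite W] [CommGroup X] {p : ℕ}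
    [Fact p.Prime] (hW : IsPGroup p W) (s : ℕ → W →* W) (hs0 : ∀ x, s 0 x = x) (hsadd : ∀ i j x, s (i + j) x = s i (s j x))
    (hsp : ∀ x, s p x = x) (hfix : Nat.card ((s 1).eqLocus (MonoidHom.id W)) ≤ p)
    (β : W →* W →* X) (halt : ∀ x, β x x = 1) (hinv : ∀ i x y, β (s i x) (s i y) = β x y)
    (hX : ∀ z : X, z ^ 2 = 1 → z = 1) (x y : W) :
    β (∏ i ∈ Finset.range p, s i x) y = 1 := by
  classical
  have hp := (Fact.out : p.Prime)
  set N : W → W := fun x => ∏ i ∈ Finset.range p, s i x with hN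
  have hNfix : ∀ x, N x ∈ (s 1).eqLocus (MonoidHom.id W) := by
    intro x
    show s 1 (∏ i ∈ Finset.range p, s i x) = ∏ i ∈ Finset.range p, s i x
    have h : (fun i => s 1 (s i x)) = fun i => s (i + 1) x := funext fun i => by
      rw [← hsadd, add_comm]
    rw [map_prod, h]
    have h1 := Finset.prod_range_succ (fun i => s i x) p
    rw [Finset.prod_range_succ' (fun i => s i x) p, hs0, hsp] at h1
    exact mul_right_cancel h1
  by_cases htriv : ∀ x, N x = 1
  · rw [show (∏ i ∈ Finset.range p, s i x) = 1 from htriv x, map_one, MonoidHom.one_apply]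
  push Not at htriv
  obtain ⟨w, hw⟩ := htriv
  set e := N w with he
  have hgen : ∀ z ∈ (s 1).eqLocus (MonoidHom.id W), ∃ k : ℤ, e ^ k = z := by
    intro z hz
    have hle : Subgroup.zpowers e ≤ (s 1).eqLocus (MonoidHom.id W) :=
      Subgroup.zpowers_le.mpr (hNfix w)
    have h1 : Nat.card ((s 1).eqLocus (MonoidHom.id W)) ≤ Nat.card (Subgroup.zpowers e) := by
      refine hfix.trans ?_
      by_contra hlt
      push Not at hlt
      rw [Nat.card_zpowers] at hlt
      obtain ⟨j, hj⟩ := IsPGroup.iff_orderOf.mp hW e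
      rcases Nat.eq_zero_or_pos j with rfl | hj0
      · exact hw (orderOf_eq_one_iff.mp (by rw [hj, pow_zero]))
      · rw [hj] at hlt
        exact absurd hlt (not_lt.mpr (Nat.le_self_pow hj0.ne' p))
    have h2 := Subgroup.eq_of_le_of_card_ge hle h1
    rw [← h2] at hz
    exact Subgroup.mem_zpowers_iff.mp hz
  obtain ⟨j, hj⟩ := hgen _ (hNfix x)
  suffices hey : β e y = 1 by
    rw [show (∏ i ∈ Finset.range p, s i x) = e ^ j from hj.symm, map_zpow, MonoidHom.zpow_apply, hey,
      one_zpow]
  obtain ⟨k, hk⟩ := hgen _ (hNfix y)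
  set y₀ := y * (w ^ k)⁻¹ with hy₀
  have hNy₀ : N y₀ = 1 := by
    simp only [hN, hy₀, map_mul, map_inv, map_zpow, Finset.prod_mul_distrib, Finset.prod_inv_distrib,
      Finset.prod_zpow]
    rw [show (∏ i ∈ Finset.range p, s i y) = e ^ k from hk.symm]
    exact mul_inv_cancel _
  have h1 : β e y₀ = 1 := by
    have e1 : β e y₀ = β w (∏ i ∈ Finset.range p, s (p - i) y₀) := by
      rw [he, hN, map_prod, MonoidHom.finsetProd_apply, map_prod]
      refine Finset.prod_congr rfl fun i hi => ?_
      rw [← hinv (p - i) (s i w) y₀, ← hsadd, Nat.sub_add_cancel (Finset.mem_range.mp hi).le, hsp]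
    rw [e1]
    have e2 : (∏ i ∈ Finset.range p, s (p - i) y₀) = N y₀ := by
      rw [← Finset.prod_range_reflect]
      have e3 : ∀ i ∈ Finset.range p, s (p - (p - 1 - i)) y₀ = s (i + 1) y₀ := fun i hi => by
        have := Finset.mem_range.mp hi
        congr 2
        omega
      rw [Finset.prod_congr rfl e3]
      have h1 := Finset.prod_range_succ (fun i => s i y₀) p
      rw [Finset.prod_range_succ' (fun i => s i y₀) p, hs0, hsp] at h1
      exact mul_right_cancel h1
    rw [e2, hNy₀, map_one]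
  have h2 : β e w = 1 := by
    rw [he, hN, map_prod, MonoidHom.finsetProd_apply]
    obtain ⟨q, hq⟩ : ∃ q, p = q + 1 := ⟨p - 1, by have := hp.pos; omega⟩
    rw [hq, Finset.prod_range_succ', hs0, halt, mul_one]
    refine hX _ ?_
    rw [sq]
    nth_rewrite 1 [← Finset.prod_range_reflect]
    rw [← Finset.prod_mul_distrib]
    refine Finset.prod_eq_one fun i hi => ?_
    have := Finset.mem_range.mp hi
    rw [← hinv (i + 1) (s (q - 1 - i + 1) w) w, ← hsadd,
      show i + 1 + (q - 1 - i + 1) = p by omega, hsp]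
    have h := halt (w * s (i + 1) w)
    simp only [map_mul, MonoidHom.mul_apply, halt, one_mul, mul_one] at h
    rw [mul_comm] at h
    exact h
  have hyy : y = y₀ * w ^ k := by rw [hy₀, inv_mul_cancel_right]
  rw [hyy, map_mul, map_zpow, h1, h2, one_zpow, one_mul]
theorem card_comap {A B : Type*} [Group A] [Finite A] [Group B] {f : A →* B} (K : Subgroup B)
    (hf : Function.Surjective f) : Nat.card (K.comap f) = Nat.card K * Nat.card f.ker := by
  let g := f.subgroupComap K
  have hg : Function.Surjective g := fun y => by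
    obtain ⟨x, hx⟩ := hf y.1
    exact ⟨⟨x, show f x ∈ K from hx ▸ y.2⟩, Subtype.ext hx⟩
  rw [Subgroup.card_eq_card_quotient_mul_card_subgroup g.ker,
    Nat.card_congr (QuotientGroup.quotientKerEquivOfSurjective g hg).toEquiv]
  congr 1
  exact Nat.card_congr
    { toFun := fun x => ⟨x.1.1, congrArg Subtype.val (MonoidHom.mem_ker.mp x.2)⟩
      invFun := fun x => ⟨⟨x.1, show f x.1 ∈ K from (MonoidHom.mem_ker.mp x.2).symm ▸ one_mem K⟩,
        Subtype.ext (MonoidHom.mem_ker.mp x.2)⟩
      left_inv := fun _ => rfl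
      right_inv := fun _ => rfl }

variable {G : Type*} [Group G] [Finite G] {p : ℕ}

theorem conj_mem_of_mem_normalizer {H : Subgroup G} {m x : G}
    (hm : m ∈ Subgroup.normalizer (H : Set G)) (hx : x ∈ H) : m * x * m⁻¹ ∈ H :=
  (Subgroup.mem_normalizer_iff.mp hm x).mp hx

theorem mem_normalizer_commutator {H K : Subgroup G} {m : G}
    (hH : m ∈ Subgroup.normalizer (H : Set G)) (hK : m ∈ Subgroup.normalizer (K : Set G)) :
    m ∈ Subgroup.normalizer ((⁅H, K⁆ : Subgroup G) : Set G) := by
  rw [← conj_smul_eq_self_iff, conj_smul_commutator, conj_smul_eq_self_iff.mpr hH,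
    conj_smul_eq_self_iff.mpr hK]

/-- A `p`-element fixing at most `p` elements of order `p`, all centralized by the `p'`-group `R`
on which it acts without fixed points, forces `R` to centralize the `p`-group (`p` odd). -/
theorem le_centralizer_of_fixed_le [Fact p.Prime] (hp2 : p ≠ 2) {U R Z : Subgroup G} {b : G}
    (hU : IsPGroup p U) (hR : (Nat.card R).Coprime p) (hb : b ^ p = 1)
    (hbU : b ∈ Subgroup.normalizer (U : Set G)) (hbR : b ∈ Subgroup.normalizer (R : Set G))
    (hRU : R ≤ Subgroup.normalizer (U : Set G)) (hfpf : ∀ r ∈ R, b * r = r * b → r = 1)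
    (hZ : ∀ x ∈ U, x ^ p = 1 → b * x = x * b → x ∈ Z) (hZc : Nat.card Z ≤ p)
    (hZR : Z ≤ Subgroup.centralizer (R : Set G)) : R ≤ Subgroup.centralizer (U : Set G) := by
  classical
  have hp := (Fact.out : p.Prime)
  induction hn : Nat.card U using Nat.strongRecOn generalizing U with
  | ind n ih =>
  subst hn
  by_contra hcon
  have hsub : ∀ V : Subgroup G, V < U → b ∈ Subgroup.normalizer (V : Set G) →
      R ≤ Subgroup.normalizer (V : Set G) → R ≤ Subgroup.centralizer (V : Set G) := fun V hV hbV hRV =>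
    ih _ (lt_of_not_ge fun h => hV.ne (Subgroup.eq_of_le_of_card_ge hV.le h)) (hU.to_le hV.le) hbV hRV
      (fun x hx => hZ x (hV.le hx)) rfl
  have hcop : (Nat.card R).Coprime (Nat.card U) := by
    obtain ⟨k, hk⟩ := IsPGroup.iff_card.mp hU
    rw [hk]; exact hR.pow_right k
  have hU1 : U ≠ ⊥ := fun h => hcon fun r _ x hx => by
    subst h
    rw [SetLike.mem_coe, Subgroup.mem_bot] at hx
    rw [hx, one_mul, mul_one]
  have hord : ∀ r ∈ R, (orderOf r).Coprime p := fun r hr =>
    hR.coprime_dvd_left (Subgroup.orderOf_dvd_natCard R hr)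
  -- generated by its elements of order `p`
  have hgenU : Subgroup.closure {x | x ∈ U ∧ x ^ p = 1} = U := by
    set W := Subgroup.closure {x | x ∈ U ∧ x ^ p = 1}
    have hle : W ≤ U := (Subgroup.closure_le _).mpr fun x hx => hx.1
    refine hle.eq_of_not_lt fun hlt => hcon ?_
    have hnorm : ∀ m ∈ Subgroup.normalizer (U : Set G), m ∈ Subgroup.normalizer (W : Set G) := by
      intro m hm
      refine Subgroup.mem_normalizer_fintype fun x hx => ?_
      refine ((Subgroup.closure_le (W.comap (MulAut.conj m).toMonoidHom)).mpr ?_) hx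
      rintro y ⟨hy, hyp⟩
      exact Subgroup.subset_closure ⟨conj_mem_of_mem_normalizer hm hy,
        show (m * y * m⁻¹) ^ p = 1 by rw [conj_pow, hyp, mul_one, mul_inv_cancel]⟩
    have hWc := hsub W hlt (hnorm b hbU) (fun r hr => hnorm r (hRU hr))
    intro r hr
    refine OmegaDetect.mem_centralizer_of_fix (p := p) (hord r hr) hU (hRU hr) fun a ha h => ?_
    have hap : a ^ p = 1 := h.resolve_right fun h2 => hp2 h2.1
    exact (Subgroup.mem_centralizer_iff.mp (hWc hr) a (Subgroup.subset_closure ⟨ha, hap⟩)).symm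
  -- the fixed points `F` of `R`
  set F := U ⊓ Subgroup.centralizer (R : Set G) with hF
  have hFlt : F < U := inf_le_left.lt_of_ne fun h => hcon
    (Subgroup.le_centralizer_iff.mp (inf_eq_left.mp h))
  have hbF : b ∈ Subgroup.normalizer (F : Set G) := Subgroup.inf_normalizer_le_normalizer_inf
    ⟨hbU, by
      show b ∈ Subgroup.normalizer (Subgroup.centralizer (R : Set G) : Set G)
      rw [Subgroup.mem_normalizer_iff_map_conj_eq]
      refine Subgroup.eq_of_le_of_card_ge ?_ (Subgroup.card_map_of_injective (MulAut.conj b).injective).ge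
      rintro _ ⟨x, hx, rfl⟩ r hr
      show r * (b * x * b⁻¹) = b * x * b⁻¹ * r
      have h1 := conj_mem_of_mem_normalizer (inv_mem hbR) hr
      rw [inv_inv] at h1
      calc r * (b * x * b⁻¹) = b * ((b⁻¹ * r * b) * x) * b⁻¹ := by group
        _ = b * (x * (b⁻¹ * r * b)) * b⁻¹ := by rw [Subgroup.mem_centralizer_iff.mp hx _ h1]
        _ = _ := by group⟩
  have hRF : R ≤ Subgroup.normalizer (F : Set G) := fun r hr => by
    refine Subgroup.mem_normalizer_fintype fun x hx => ?_
    rw [Subgroup.mem_centralizer_iff.mp (Subgroup.mem_inf.mp hx).2 r hr, mul_inv_cancel_right]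
    exact hx
  set D := ⁅U, U⁆ with hD
  have hDF : D ≤ F := by
    have hDU : D ≤ U := commutator_le_of_le_normalizer Subgroup.le_normalizer
    have hDlt : D < U := by
      have := hU.isNilpotent
      exact commutator_lt_of_isNilpotent le_rfl hU1 Subgroup.le_normalizer
    exact le_inf hDU (Subgroup.le_centralizer_iff.mp (hsub D hDlt (mem_normalizer_commutator hbU hbU)
      (fun r hr => mem_normalizer_commutator (hRU hr) (hRU hr))))
  have hUR : ⁅U, R⁆ = U := by
    refine (commutator_le_of_le_normalizer hRU).eq_of_not_lt fun hlt => hcon ?_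
    have hc := hsub _ hlt (mem_normalizer_commutator hbU hbR)
      (Subgroup.normalizer_commutator_ge_right U R)
    intro r hr x hx
    have hmem : r * x * r⁻¹ * x⁻¹ ∈ ⁅U, R⁆ := by
      have := inv_mem (Subgroup.commutator_mem_commutator hx hr)
      rw [commutatorElement_def] at this
      rwa [show (x * r * x⁻¹ * r⁻¹)⁻¹ = r * x * r⁻¹ * x⁻¹ by group] at this
    exact (OmegaDetect.eq_one_of_fix (Subgroup.mem_centralizer_iff.mp (hc hr) _ hmem).symm
      (OmegaDetect.coprime_of_mem hU (hord r hr)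
        (mul_mem (conj_mem_of_mem_normalizer (hRU hr) hx) (inv_mem hx)))).symm
  -- `F` is central in `U`
  have hFc : ∀ f ∈ F, ∀ u ∈ U, u * f = f * u := by
    have h1 : ⁅⁅F, U⁆, R⁆ = ⊥ := Subgroup.commutator_eq_bot_iff_le_centralizer.mpr
      ((Subgroup.commutator_mono inf_le_left le_rfl).trans (hDF.trans inf_le_right))
    have h2 : ⁅⁅R, F⁆, U⁆ = ⊥ := by
      rw [Subgroup.commutator_comm R F, Subgroup.commutator_eq_bot_iff_le_centralizer.mpr
        (inf_le_right : F ≤ _), Subgroup.commutator_bot_left]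
    have h3 : ⁅⁅U, R⁆, F⁆ = ⊥ := Subgroup.commutator_commutator_eq_bot_of_rotate h2 h1
    rw [hUR, Subgroup.commutator_eq_bot_iff_le_centralizer] at h3
    exact fun f hf u hu => (Subgroup.mem_centralizer_iff.mp (h3 hu) f hf).symm
  -- exponent `p`
  have hexp : ∀ x ∈ U, x ^ p = 1 := by
    have hmul : ∀ x ∈ U, ∀ y ∈ U, x ^ p = 1 → y ^ p = 1 → (y * x) ^ p = 1 := by
      intro x hx y hy hxp hyp
      set c := x⁻¹ * y⁻¹ * x * y with hc
      have hcD : c ∈ D := by
        have := Subgroup.commutator_mem_commutator (inv_mem hx) (inv_mem hy)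
        rwa [commutatorElement_def, inv_inv, inv_inv] at this
      have hcx : Commute c x := (hFc c (hDF hcD) x hx).symm
      have hcy : Commute c y := (hFc c (hDF hcD) y hy).symm
      have hcp : c ^ p = 1 := by
        have h1 : (y⁻¹ * x * y⁻¹⁻¹) ^ p = 1 := by rw [conj_pow, hxp, mul_one, mul_inv_cancel]
        rw [show y⁻¹ * x * y⁻¹⁻¹ = x * c by rw [hc]; group, hcx.symm.mul_pow, hxp, one_mul] at h1
        exact h1
      rw [OmegaDetect.mul_pow_central (by rw [hc]; group) hcx hcy, hxp, hyp]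
      obtain ⟨m, hm⟩ := hp.dvd_choose_self (k := 2) two_ne_zero
        (lt_of_le_of_ne hp.two_le (Ne.symm hp2))
      rw [hm, pow_mul, hcp, one_pow, mul_one, mul_one]
    intro x hx
    rw [← hgenU] at hx
    refine (Subgroup.closure_induction (p := fun y _ => y ∈ U ∧ y ^ p = 1) (fun y hy => hy)
      ⟨one_mem _, one_pow p⟩ (fun u v _ _ hu hv => ⟨mul_mem hu.1 hv.1, hmul v hv.1 u hu.1 hv.2 hu.2⟩)
      (fun u _ hu => ⟨inv_mem hu.1, by rw [inv_pow, hu.2, inv_one]⟩) hx).2
  set C := U ⊓ Subgroup.centralizer {b} with hC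
  have hCZ : C ≤ Z := fun x hx => hZ x hx.1 (hexp x hx.1)
    (Subgroup.mem_centralizer_singleton_iff.mp (Subgroup.mem_inf.mp hx).2).symm
  have hCc : Nat.card C ≤ p := (Subgroup.card_le_of_le hCZ).trans hZc
  have hCF : C ≤ F := le_inf inf_le_left (hCZ.trans hZR)
  -- the quotient modulo `F` and the action
  set F' := F.subgroupOf U with hF'
  have hF'n : F'.Normal := ⟨fun x hx g => by
    rw [hF', Subgroup.mem_subgroupOf] at hx ⊢
    simp only [Subgroup.coe_mul, Subgroup.coe_inv]
    rw [hFc _ hx g g.2, mul_inv_cancel_right]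
    exact hx⟩
  let W := ↥U ⧸ F'
  let : CommGroup W :=
    { (inferInstance : Group W) with
      mul_comm := fun a c => by
        induction a using QuotientGroup.induction_on with
        | H x =>
          induction c using QuotientGroup.induction_on with
          | H y =>
            rw [← QuotientGroup.mk_mul, ← QuotientGroup.mk_mul, QuotientGroup.eq, hF',
              Subgroup.mem_subgroupOf]
            apply hDF
            have := Subgroup.commutator_mem_commutator (inv_mem y.2) (inv_mem x.2)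
            rw [commutatorElement_def, inv_inv, inv_inv] at this
            simpa [mul_assoc] using this }
  set M := Subgroup.normalizer (U : Set G) ⊓ Subgroup.normalizer (F : Set G) with hM
  let cj : M → ↥U →* ↥U := fun m =>
    { toFun := fun u => ⟨m * u * (m : G)⁻¹, conj_mem_of_mem_normalizer (Subgroup.mem_inf.mp m.2).1 u.2⟩
      map_one' := Subtype.ext (by simp)
      map_mul' := fun u v => Subtype.ext (by simp [mul_assoc]) }
  have hcj : ∀ m : M, F' ≤ F'.comap (cj m) := fun m x hx =>
    conj_mem_of_mem_normalizer (Subgroup.mem_inf.mp m.2).2 hx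
  let ψ0 : M →* Monoid.End W :=
    { toFun := fun m => QuotientGroup.map F' F' (cj m) (hcj m)
      map_one' := by
        refine MonoidHom.ext fun w => ?_
        induction w using QuotientGroup.induction_on with
        | H u => exact congrArg QuotientGroup.mk (Subtype.ext (by simp [cj]))
      map_mul' := fun m m' => by
        refine MonoidHom.ext fun w => ?_
        induction w using QuotientGroup.induction_on with
        | H u => exact congrArg QuotientGroup.mk (Subtype.ext (by simp [cj, mul_assoc])) }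
  let ψ : M →* MulAut W :=
    { toFun := fun m => MonoidHom.toMulEquiv (ψ0 m : W →* W) (ψ0 m⁻¹ : W →* W)
        (MonoidHom.ext fun w => by
          show (ψ0 m⁻¹ * ψ0 m) w = w
          rw [← map_mul, inv_mul_cancel, map_one]
          rfl)
        (MonoidHom.ext fun w => by
          show (ψ0 m * ψ0 m⁻¹) w = w
          rw [← map_mul, mul_inv_cancel, map_one]
          rfl)
      map_one' := MulEquiv.ext fun w => by show ψ0 1 w = w; rw [map_one]; rfl
      map_mul' := fun m m' => MulEquiv.ext fun w => by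
        show ψ0 (m * m') w = ψ0 m (ψ0 m' w)
        rw [map_mul]; rfl }
  have hψ : ∀ (m : M) (u : ↥U), ψ m (QuotientGroup.mk u) =
      QuotientGroup.mk ⟨(m : G) * u * (m : G)⁻¹, conj_mem_of_mem_normalizer (Subgroup.mem_inf.mp m.2).1 u.2⟩ :=
    fun m u => rfl
  set bM : M := ⟨b, Subgroup.mem_inf.mpr ⟨hbU, hbF⟩⟩ with hbM
  have hbp : bM ^ p = 1 := Subtype.ext (by simpa using hb)
  set RM := R.subgroupOf M with hRM
  have hcopW : (Nat.card RM).Coprime (Nat.card W) := by
    rw [Nat.card_congr (Subgroup.subgroupOfEquivOfLe (le_inf hRU hRF)).toEquiv]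
    exact hcop.coprime_dvd_right (Subgroup.card_quotient_dvd_card F')
  have hfixR : ∀ w : W, (∀ r ∈ RM, ψ r w = w) → w = 1 := by
    intro w
    induction w using QuotientGroup.induction_on with
    | H u =>
      intro h
      rw [QuotientGroup.eq_one_iff, hF', Subgroup.mem_subgroupOf]
      refine Subgroup.mem_inf.mpr ⟨u.2, ?_⟩
      intro r hr
      have h1 := (QuotientGroup.eq).mp (h ⟨r, Subgroup.mem_inf.mpr ⟨hRU hr, hRF hr⟩⟩ hr).symm
      rw [hF', Subgroup.mem_subgroupOf] at h1
      simp only [Subgroup.coe_mul, Subgroup.coe_inv] at h1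
      replace h1 : (u : G)⁻¹ * (r * u * r⁻¹) ∈ F := h1
      have h2 : r * u * r⁻¹ * (u : G)⁻¹ ∈ F := by
        have h4 : (u : G) * ((u : G)⁻¹ * (r * u * r⁻¹)) * (u : G)⁻¹ = r * u * r⁻¹ * (u : G)⁻¹ := by group
        rw [← h4, hFc _ h1 u u.2, mul_inv_cancel_right]
        exact h1
      exact OmegaDetect.eq_one_of_fix (Subgroup.mem_centralizer_iff.mp (Subgroup.mem_inf.mp h2).2 r hr)
        (OmegaDetect.coprime_of_mem hU (hord r hr) (Subgroup.mem_inf.mp h2).1)
  have havg : ∀ H : Subgroup W, (∀ r ∈ RM, ∀ w ∈ H, ψ r w ∈ H) →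
      (∀ w, ∏ i ∈ Finset.range p, ψ (bM ^ i) w ∈ H) → ∀ w, w ∈ H := fun H h1 h2 =>
    mem_of_norms ψ RM bM hbp (fun r (hr : (r : G) ∈ R) => (conj_mem_of_mem_normalizer hbR hr : b * (r : G) * b⁻¹ ∈ R))
      (fun r hr h => Subtype.ext (hfpf r hr (congrArg Subtype.val h))) hcopW H h1 h2 hfixR
  let s : ℕ → W →* W := fun i => (ψ (bM ^ i)).toMonoidHom
  have hsfix : Nat.card ((s 1).eqLocus (MonoidHom.id W)) ≤ p := by
    -- the preimage `E` of the fixed points
    set E := ((s 1).eqLocus (MonoidHom.id W)).comap (QuotientGroup.mk' F') with hE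
    have hcard : Nat.card E = Nat.card ((s 1).eqLocus (MonoidHom.id W)) * Nat.card F' := by
      rw [hE, card_comap _ (QuotientGroup.mk'_surjective F'),
        QuotientGroup.ker_mk']
    have hmem : ∀ u : E, b * (u : ↥U) * b⁻¹ * ((u : ↥U) : G)⁻¹ ∈ F := by
      intro u
      have h1 : s 1 (QuotientGroup.mk (u : ↥U)) = QuotientGroup.mk (u : ↥U) := u.2
      simp only [s, MulEquiv.coe_toMonoidHom, hψ, pow_one] at h1
      have h2 := (QuotientGroup.eq).mp h1.symm
      rw [hF', Subgroup.mem_subgroupOf] at h2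
      simp only [Subgroup.coe_mul, Subgroup.coe_inv] at h2
      have h4 : ((u : ↥U) : G) * (((u : ↥U) : G)⁻¹ * (b * (u : ↥U) * b⁻¹)) * ((u : ↥U) : G)⁻¹ =
          b * (u : ↥U) * b⁻¹ * ((u : ↥U) : G)⁻¹ := by group
      rw [← h4, hFc _ h2 _ (u : ↥U).2, mul_inv_cancel_right]
      exact h2
    let δ : E →* ↥F :=
      { toFun := fun u => ⟨_, hmem u⟩
        map_one' := Subtype.ext (by simp)
        map_mul' := fun u v => Subtype.ext (by
          have hv := hFc _ (hmem v) _ (inv_mem (u : ↥U).2)
          simp only [Subgroup.coe_mul]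
          calc b * (((u : ↥U) : G) * ((v : ↥U) : G)) * b⁻¹ * (((u : ↥U) : G) * ((v : ↥U) : G))⁻¹
              = b * ((u : ↥U) : G) * b⁻¹ * ((b * ((v : ↥U) : G) * b⁻¹ * ((v : ↥U) : G)⁻¹) *
                  ((u : ↥U) : G)⁻¹) := by group
            _ = _ := by rw [← hv]; group) }
    have hker : Nat.card δ.ker ≤ p := by
      refine le_trans (Nat.card_le_card_of_injective (α := δ.ker) (β := C)
        (fun u => ⟨((u : E) : ↥U), Subgroup.mem_inf.mpr ⟨((u : E) : ↥U).2,
          Subgroup.mem_centralizer_singleton_iff.mpr (by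
            have h1 : b * (((u : E) : ↥U) : G) * b⁻¹ * (((u : E) : ↥U) : G)⁻¹ = 1 :=
              congrArg Subtype.val (MonoidHom.mem_ker.mp u.2)
            rw [mul_inv_eq_one, mul_inv_eq_iff_eq_mul] at h1
            exact h1.symm)⟩⟩) ?_) hCc
      intro u v h
      exact Subtype.ext (Subtype.ext (Subtype.ext (congrArg (fun x : C => (x : G)) h)))
    have h1 := δ.ker.card_eq_card_quotient_mul_card_subgroup
    rw [Nat.card_congr (QuotientGroup.quotientKerEquivRange δ).toEquiv, hcard] at h1
    have h2 : Nat.card δ.range ≤ Nat.card F' := by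
      rw [hF', Nat.card_congr (Subgroup.subgroupOfEquivOfLe (inf_le_left : F ≤ U)).toEquiv]
      exact Subgroup.card_le_card_group _
    refine Nat.le_of_mul_le_mul_right ?_ (Nat.card_pos (α := F'))
    calc _ = Nat.card δ.range * Nat.card δ.ker := h1
      _ ≤ Nat.card F' * p := Nat.mul_le_mul h2 hker
      _ = p * Nat.card F' := mul_comm _ _
  have hWp : IsPGroup p W := hU.to_quotient F'
  have hs0 : ∀ x, s 0 x = x := fun x => by simp [s]
  have hsadd : ∀ i j x, s (i + j) x = s i (s j x) := fun i j x => by simp [s, pow_add]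
  have hsp : ∀ x, s p x = x := fun x => by
    show ψ (bM ^ p) x = x
    rw [hbp, map_one]
    rfl
  -- the pairing into `F / [D, b]`
  set J : Subgroup F := (Subgroup.closure ((fun f => b * f * b⁻¹ * f⁻¹) '' (D : Set G))).subgroupOf F
    with hJ
  have hFcomm : ∀ f g : F, f * g = g * f := fun f g =>
    Subtype.ext (hFc g g.2 f (Subgroup.mem_inf.mp f.2).1)
  let : CommGroup F := { (inferInstance : Group F) with mul_comm := hFcomm }
  have hcm : ∀ u v : ↥U, ⁅(u : G), (v : G)⁆ ∈ F := fun u v =>
    hDF (Subgroup.commutator_mem_commutator u.2 v.2)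
  let c2 : ↥U → ↥U → F ⧸ J := fun u v => QuotientGroup.mk ⟨⁅(u : G), (v : G)⁆, hcm u v⟩
  have hcl : ∀ u u' v : ↥U, c2 (u * u') v = c2 u v * c2 u' v := by
    intro u u' v
    simp only [c2, ← QuotientGroup.mk_mul]
    refine congrArg _ (Subtype.ext ?_)
    have hc := hFc _ (hcm u' v) u u.2
    simp only [Subgroup.coe_mul]
    rw [← hFc _ (hcm u v) _ (Subgroup.mem_inf.mp (hcm u' v)).1]
    simp only [commutatorElement_def] at hc ⊢
    calc (u : G) * u' * v * ((u : G) * u')⁻¹ * (v : G)⁻¹
        = (u : G) * ((u' : G) * v * (u' : G)⁻¹ * (v : G)⁻¹) * (v * (u : G)⁻¹ * (v : G)⁻¹) := by group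
      _ = ((u' : G) * v * (u' : G)⁻¹ * (v : G)⁻¹) * u * (v * (u : G)⁻¹ * (v : G)⁻¹) := by rw [hc]
      _ = _ := by group
  have hswap : ∀ u v : ↥U, c2 u v = (c2 v u)⁻¹ := by
    intro u v
    simp only [c2, ← QuotientGroup.mk_inv]
    exact congrArg _ (Subtype.ext (by simp [commutatorElement_inv]))
  have hcr : ∀ u v v' : ↥U, c2 u (v * v') = c2 u v * c2 u v' := by
    intro u v v'
    rw [hswap u, hcl, mul_inv, ← hswap u, ← hswap u]
  have hJ1 : ∀ (z : G) (hz : z ∈ F), z = 1 → (QuotientGroup.mk (⟨z, hz⟩ : F) : F ⧸ J) = 1 :=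
    fun z hz h => by subst h; rfl
  let β1 : ↥U → W →* F ⧸ J := fun u => QuotientGroup.lift F' (MonoidHom.mk' (c2 u) (hcr u))
    (fun f hf => by
      rw [hF', Subgroup.mem_subgroupOf] at hf
      show c2 u f = 1
      exact hJ1 _ _ (commutatorElement_eq_one_iff_mul_comm.mpr (hFc _ hf u u.2)))
  let β : W →* W →* F ⧸ J := QuotientGroup.lift F'
    (MonoidHom.mk' β1 fun u u' => MonoidHom.ext fun w => by
      induction w using QuotientGroup.induction_on with
      | H v => exact hcl u u' v)
    (fun f hf => MonoidHom.ext fun w => by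
      induction w using QuotientGroup.induction_on with
      | H v =>
        rw [hF', Subgroup.mem_subgroupOf] at hf
        show c2 f v = 1
        exact hJ1 _ _ (commutatorElement_eq_one_iff_mul_comm.mpr (hFc _ hf v v.2).symm))
  have hβ : ∀ u v : ↥U, β (QuotientGroup.mk u) (QuotientGroup.mk v) = c2 u v := fun _ _ => rfl
  -- conjugation by `b` is trivial on `D` modulo `J`
  have hbinv : ∀ (d : G) (hd : d ∈ D) (hd' : b * d * b⁻¹ ∈ F),
      (QuotientGroup.mk (⟨b * d * b⁻¹, hd'⟩ : F) : F ⧸ J) = QuotientGroup.mk ⟨d, hDF hd⟩ := by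
    intro d hd hd'
    rw [QuotientGroup.eq_iff_div_mem, hJ, Subgroup.mem_subgroupOf]
    refine Subgroup.subset_closure ⟨d, hd, ?_⟩
    simp [div_eq_mul_inv]
  have hinv1 : ∀ u v : ↥U, β (ψ bM (QuotientGroup.mk u)) (ψ bM (QuotientGroup.mk v)) = c2 u v := by
    intro u v
    rw [hψ, hψ, hβ]
    simp only [c2]
    have hd := Subgroup.commutator_mem_commutator u.2 v.2
    refine Eq.trans (congrArg _ (Subtype.ext ?_)) (hbinv _ hd (conj_mem_of_mem_normalizer hbF (hDF hd)))
    show ⁅b * u * b⁻¹, b * v * b⁻¹⁆ = b * ⁅(u : G), (v : G)⁆ * b⁻¹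
    rw [conjugate_commutatorElement]
  have hinv : ∀ i x y, β (s i x) (s i y) = β x y := by
    intro i
    induction i with
    | zero => intro x y; rw [hs0, hs0]
    | succ i ih =>
      intro x y
      rw [add_comm, hsadd, hsadd]
      conv_rhs => rw [← ih x y]
      generalize s i x = x', s i y = y'
      induction x' using QuotientGroup.induction_on with
      | H u =>
        induction y' using QuotientGroup.induction_on with
        | H v =>
          show β (ψ (bM ^ 1) _) (ψ (bM ^ 1) _) = _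
          rw [pow_one, hinv1, hβ]
  have halt : ∀ x, β x x = 1 := fun x => by
    induction x using QuotientGroup.induction_on with
    | H u =>
      rw [hβ]
      exact hJ1 _ _ (commutatorElement_self (u : G))
  have hodd : ∀ z : F ⧸ J, z ^ 2 = 1 → z = 1 := fun z hz => by
    have hFp : IsPGroup p F := hU.to_le inf_le_left
    obtain ⟨k, hk⟩ := IsPGroup.iff_orderOf.mp (hFp.to_quotient J) z
    refine orderOf_eq_one_iff.mp (Nat.eq_one_of_dvd_coprimes
      (((Nat.coprime_primes hp Nat.prime_two).mpr hp2).pow_left k) (hk ▸ dvd_rfl)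
      (orderOf_dvd_of_pow_eq_one hz))
  -- every commutator lies in `J`
  have hker : ∀ w, w ∈ β.ker := by
    refine havg β.ker (fun r hr w hw => ?_) fun w => ?_
    · rw [MonoidHom.mem_ker] at hw ⊢
      refine MonoidHom.ext fun y => ?_
      induction w using QuotientGroup.induction_on with
      | H u =>
        induction y using QuotientGroup.induction_on with
        | H v =>
          have hrR : (r : G) ∈ R := hr
          set v' : ↥U := ⟨(r : G)⁻¹ * v * r, by
            have := conj_mem_of_mem_normalizer (inv_mem (hRU hrR)) v.2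
            rwa [inv_inv] at this⟩
          have h := DFunLike.congr_fun hw (QuotientGroup.mk v')
          rw [hβ] at h
          rw [hψ, hβ, MonoidHom.one_apply]
          rw [MonoidHom.one_apply] at h
          rw [← h]
          simp only [c2]
          refine congrArg QuotientGroup.mk (Subtype.ext ?_)
          show ⁅(r : G) * u * (r : G)⁻¹, (v : G)⁆ = ⁅(u : G), (v' : G)⁆
          have hfix : ∀ z ∈ F, (r : G) * z * (r : G)⁻¹ = z := fun z hz => by
            rw [Subgroup.mem_centralizer_iff.mp (Subgroup.mem_inf.mp hz).2 r hrR, mul_inv_cancel_right]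
          rw [← hfix _ (hcm u v')]
          simp only [commutatorElement_def, v']
          group
    · rw [MonoidHom.mem_ker]
      exact MonoidHom.ext fun y => pairing_norm_eq_one hWp s hs0 hsadd hsp hsfix β halt hinv hodd w y
  have hDJ : D ≤ Subgroup.closure ((fun f => b * f * b⁻¹ * f⁻¹) '' (D : Set G)) := by
    rw [hD, Subgroup.commutator_le]
    intro u hu v hv
    have h := DFunLike.congr_fun (MonoidHom.mem_ker.mp (hker (QuotientGroup.mk ⟨u, hu⟩)))
      (QuotientGroup.mk ⟨v, hv⟩)
    rw [hβ, MonoidHom.one_apply, QuotientGroup.eq_one_iff, hJ, Subgroup.mem_subgroupOf] at h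
    exact h
  have hD1 : D = ⊥ := by
    have hb' : IsPGroup p (Subgroup.zpowers b) := by
      obtain ⟨j, -, hj⟩ := (Nat.dvd_prime_pow hp).mp ((pow_one p).symm ▸ orderOf_dvd_of_pow_eq_one hb)
      exact IsPGroup.of_card (by rw [Nat.card_zpowers, hj])
    set P := U ⊔ Subgroup.zpowers b
    have hP : IsPGroup p P := hU.to_sup_of_normal_left' hb' (Subgroup.zpowers_le.mpr hbU)
    have hPn := hP.isNilpotent
    by_contra hne
    refine absurd ?_ (commutator_lt_of_isNilpotent (X := D) (Y := P)
      ((hDF.trans inf_le_left).trans le_sup_left) hne (sup_le ?_ ?_)).not_ge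
    · refine hDJ.trans ((Subgroup.closure_le _).mpr ?_)
      rintro _ ⟨f, hf, rfl⟩
      have := inv_mem (Subgroup.commutator_mem_commutator hf
        (Subgroup.mem_sup_right (Subgroup.mem_zpowers b) : b ∈ P))
      rw [commutatorElement_def] at this
      show b * f * b⁻¹ * f⁻¹ ∈ ⁅D, P⁆
      rwa [show (f * b * f⁻¹ * b⁻¹)⁻¹ = b * f * b⁻¹ * f⁻¹ by group] at this
    · exact Subgroup.normalizer_commutator_ge_left U U
    · exact Subgroup.zpowers_le.mpr (mem_normalizer_commutator hbU hbU)
  -- `U` is abelian, so norms are fixed points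
  have hnorm : ∀ w, ∏ i ∈ Finset.range p, ψ (bM ^ i) w ∈ (⊥ : Subgroup W) := by
    intro w
    induction w using QuotientGroup.induction_on with
    | H u =>
      have hab : ∀ x ∈ U, ∀ y ∈ U, x * y = y * x := fun x hx y hy => by
        rw [← commutatorElement_eq_one_iff_mul_comm, ← Subgroup.mem_bot, ← hD1]
        exact Subgroup.commutator_mem_commutator hx hy
      have hP : ∀ n, ∃ h : ((u : G) * b) ^ n * (b ^ n)⁻¹ ∈ U,
          (QuotientGroup.mk (⟨_, h⟩ : ↥U) : W) = ∏ i ∈ Finset.range n, ψ (bM ^ i) (QuotientGroup.mk u) := by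
        intro n
        induction n with
        | zero =>
          refine ⟨by simp, ?_⟩
          rw [Finset.prod_range_zero, QuotientGroup.eq_one_iff, hF', Subgroup.mem_subgroupOf]
          simp
        | succ n ih =>
          obtain ⟨h, hw⟩ := ih
          have hbn : b ^ n * (u : G) * (b ^ n)⁻¹ ∈ U := conj_mem_of_mem_normalizer (pow_mem hbU n) u.2
          have e : ((u : G) * b) ^ (n + 1) * (b ^ (n + 1))⁻¹ =
              ((u : G) * b) ^ n * (b ^ n)⁻¹ * (b ^ n * (u : G) * (b ^ n)⁻¹) := by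
            rw [pow_succ, pow_succ b]; group
          refine ⟨by rw [e]; exact mul_mem h hbn, ?_⟩
          rw [Finset.prod_range_succ, ← hw, hψ, ← QuotientGroup.mk_mul]
          refine congrArg _ (Subtype.ext ?_)
          rw [Subgroup.coe_mul]
          show ((u : G) * b) ^ (n + 1) * (b ^ (n + 1))⁻¹ = _
          rw [e]
          rfl
      obtain ⟨h, hw⟩ := hP p
      rw [← hw, Subgroup.mem_bot, QuotientGroup.eq_one_iff, hF', Subgroup.mem_subgroupOf]
      have h' : ((u : G) * b) ^ p ∈ U := by rw [hb, inv_one, mul_one] at h; exact h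
      show ((u : G) * b) ^ p * (b ^ p)⁻¹ ∈ F
      rw [hb, inv_one, mul_one]
      refine hCF (Subgroup.mem_inf.mpr ⟨h', Subgroup.mem_centralizer_singleton_iff.mpr ?_⟩)
      have h1 : Commute (((u : G) * b) ^ p) ((u : G) * b) := (Commute.refl _).pow_left p
      have h2 : Commute (((u : G) * b) ^ p) (u : G)⁻¹ :=
        (show Commute (((u : G) * b) ^ p) (u : G) from hab _ h' _ u.2).inv_right
      have h3 := h2.mul_right h1
      rw [inv_mul_cancel_left] at h3
      exact h3.eq
  have hWtriv := havg ⊥ (fun r _ w hw => by rw [Subgroup.mem_bot] at hw ⊢; rw [hw, map_one]) hnorm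
  refine hFlt.not_ge fun u hu => ?_
  have h := hWtriv (QuotientGroup.mk ⟨u, hu⟩)
  rw [Subgroup.mem_bot, QuotientGroup.eq_one_iff, hF', Subgroup.mem_subgroupOf] at h
  exact h

end Cfsg.Agent.Coprime.FrobeniusPGroup
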