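import Cfsg.Agent.Lib.Coprime.PGroup
import Cfsg.Agent.Solvable.Basics
import Mathlib

/-!
A `p'`-element normalizing a `p`-group is trivial on it when it fixes the elements of order `p`
(order dividing 4 for `p = 2`), and a descent criterion for triviality of such an action.
-/

set_option autoImplicit false

namespace Cfsg.Agent.Coprime.OmegaDetect

variable {G : Type*} [Group G] {p : ℕ}

theorem mul_pow_central {x y c : G} (h : x * y = y * x * c) (hx : Commute c x) (hy : Commute c y)
    (n : ℕ) : (y * x) ^ n = y ^ n * x ^ n * c ^ n.choose 2 := by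
  have hxn : ∀ m : ℕ, x ^ m * y = y * x ^ m * c ^ m := by
    intro m
    induction m with
    | zero => simp
    | succ m ih =>
      calc x ^ (m + 1) * y = x ^ m * (x * y) := by rw [pow_succ, mul_assoc]
        _ = x ^ m * (y * x * c) := by rw [h]
        _ = x ^ m * y * (x * c) := by simp only [mul_assoc]
        _ = y * x ^ m * (c ^ m * x) * c := by rw [ih]; simp only [mul_assoc]
        _ = y * x ^ m * (x * c ^ m) * c := by rw [(hx.pow_left m).eq]
        _ = y * x ^ (m + 1) * c ^ (m + 1) := by rw [pow_succ, pow_succ]; simp only [mul_assoc]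
  induction n with
  | zero => simp
  | succ n ih =>
    have hc : Commute (c ^ n.choose 2) (y * x) := (hy.mul_right hx).pow_left _
    calc (y * x) ^ (n + 1) = y ^ n * x ^ n * (c ^ n.choose 2 * (y * x)) := by
          rw [pow_succ, ih]; simp only [mul_assoc]
      _ = y ^ n * (x ^ n * y) * (x * c ^ n.choose 2) := by rw [hc.eq]; simp only [mul_assoc]
      _ = y ^ n * y * x ^ n * (c ^ n * x) * c ^ n.choose 2 := by rw [hxn]; simp only [mul_assoc]
      _ = y ^ n * y * x ^ n * (x * c ^ n) * c ^ n.choose 2 := by rw [(hx.pow_left n).eq]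
      _ = y ^ (n + 1) * x ^ (n + 1) * c ^ (n + n.choose 2) := by
          rw [pow_succ y, pow_succ x, pow_add]; simp only [mul_assoc]
      _ = _ := by rw [Nat.choose_succ_succ, Nat.choose_one_right]

/-- If `g` fixes `d = g x g⁻¹ x⁻¹` and `orderOf g` is prime to that of `d`, then `d = 1`. -/
theorem eq_one_of_fix {g x : G} (hd : Commute g (g * x * g⁻¹ * x⁻¹))
    (hcop : (orderOf g).Coprime (orderOf (g * x * g⁻¹ * x⁻¹))) : g * x = x * g := by
  set d := g * x * g⁻¹ * x⁻¹ with hdd
  have hk : ∀ k : ℕ, g ^ k * x * (g ^ k)⁻¹ = d ^ k * x := by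
    intro k
    induction k with
    | zero => simp
    | succ k ih =>
      calc g ^ (k + 1) * x * (g ^ (k + 1))⁻¹ = g * (g ^ k * x * (g ^ k)⁻¹) * g⁻¹ := by
            rw [pow_succ']; group
        _ = g * (d ^ k * x) * g⁻¹ := by rw [ih]
        _ = g * d ^ k * x * g⁻¹ := by group
        _ = d ^ k * g * x * g⁻¹ := by rw [(hd.pow_right k).eq]
        _ = d ^ k * d * x := by rw [hdd]; group
        _ = _ := by rw [pow_succ]
  have h1 := hk (orderOf g)
  rw [pow_orderOf_eq_one, inv_one, one_mul, mul_one, eq_comm, mul_eq_right] at h1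
  have h2 : d = 1 := orderOf_eq_one_iff.mp
    (Nat.eq_one_of_dvd_coprimes hcop (orderOf_dvd_of_pow_eq_one h1) dvd_rfl)
  rw [hdd, mul_inv_eq_one, mul_inv_eq_iff_eq_mul] at h2
  exact h2

theorem coprime_of_mem [Fact p.Prime] {Q : Subgroup G} (hQ : IsPGroup p Q) {g d : G}
    (ho : (orderOf g).Coprime p) (hd : d ∈ Q) : (orderOf g).Coprime (orderOf d) := by
  obtain ⟨k, hk⟩ := IsPGroup.iff_orderOf.mp hQ ⟨d, hd⟩
  rw [Subgroup.orderOf_mk] at hk
  rw [hk]
  exact ho.pow_right k

/-- The commutators of `g` with a subgroup it normalizes generate a subgroup it normalizes; if `g`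
centralizes that subgroup, it centralizes the original one. -/
theorem centralizes_of_commutators [Fact p.Prime] {Q D : Subgroup G} (hQ : IsPGroup p Q) {g : G}
    (ho : (orderOf g).Coprime p) (hg : g ∈ Subgroup.normalizer (Q : Set G))
    (hD : ∀ x ∈ Q, g * x * g⁻¹ * x⁻¹ ∈ D) (hc : g ∈ Subgroup.centralizer (D : Set G)) :
    g ∈ Subgroup.centralizer (Q : Set G) := by
  intro x hx
  exact (eq_one_of_fix (hc _ (hD x hx)).symm (coprime_of_mem hQ ho
    (Q.mul_mem ((Subgroup.mem_normalizer_iff.mp hg x).mp hx) (Q.inv_mem hx)))).symm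

theorem commutators_invariant [Finite G] (g : G) (S : Set G) (hS : ∀ x ∈ S, g * x * g⁻¹ ∈ S) :
    g ∈ Subgroup.normalizer (Subgroup.closure ((fun x => g * x * g⁻¹ * x⁻¹) '' S) : Set G) := by
  set D := Subgroup.closure ((fun x => g * x * g⁻¹ * x⁻¹) '' S)
  rw [Subgroup.mem_normalizer_iff]
  have hle : D.map (MulAut.conj g).toMonoidHom ≤ D := by
    rw [MonoidHom.map_closure, Subgroup.closure_le]
    rintro _ ⟨_, ⟨x, hx, rfl⟩, rfl⟩
    refine Subgroup.subset_closure ⟨g * x * g⁻¹, hS x hx, ?_⟩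
    simp only [MulEquiv.coe_toMonoidHom, MulAut.conj_apply]
    group
  have heq := Subgroup.eq_of_le_of_card_ge hle
    (Subgroup.card_map_of_injective (MulAut.conj g).injective).ge
  intro y
  constructor
  · intro hy
    exact hle ⟨y, hy, rfl⟩
  · intro hy
    rw [← heq] at hy
    obtain ⟨z, hz, hzy⟩ := hy
    simp only [MulEquiv.coe_toMonoidHom, MulAut.conj_apply, mul_left_inj, mul_right_inj] at hzy
    rwa [← hzy]

theorem normalizer_le_normalizer_char (A : Subgroup G) (X : Subgroup ↥A) [X.Characteristic] :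
    Subgroup.normalizer (A : Set G) ≤ Subgroup.normalizer ((X.map A.subtype : Subgroup G) : Set G) := by
  intro g hg
  rw [Subgroup.mem_normalizer_iff_map_conj_eq]
  let e : ↥A ≃* ↥A :=
    ((MulAut.conj g).subgroupMap A).trans
      (MulEquiv.subgroupCongr (Subgroup.mem_normalizer_iff_map_conj_eq.1 hg))
  conv_rhs => rw [← (Subgroup.characteristic_iff_map_eq (H := X)).1 inferInstance e]
  rw [Subgroup.map_map, Subgroup.map_map]
  rfl

/-- **Detection on elements of small order.** -/
theorem mem_centralizer_of_fix [Finite G] [hp : Fact p.Prime] {g : G} (ho : (orderOf g).Coprime p)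
    {Q : Subgroup G} (hQ : IsPGroup p Q) (hg : g ∈ Subgroup.normalizer (Q : Set G))
    (hfix : ∀ a ∈ Q, (a ^ p = 1 ∨ (p = 2 ∧ a ^ 4 = 1)) → g * a = a * g) :
    g ∈ Subgroup.centralizer (Q : Set G) := by
  induction hn : Nat.card Q using Nat.strongRecOn generalizing Q with
  | ind n ih =>
    subst hn
    by_contra hcon
    have hsub : ∀ R : Subgroup G, R < Q → g ∈ Subgroup.normalizer (R : Set G) →
        g ∈ Subgroup.centralizer (R : Set G) := fun R hR hgR => ih _
      (lt_of_not_ge fun h => hR.ne (Subgroup.eq_of_le_of_card_ge hR.le h)) (hQ.to_le hR.le) hgR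
      (fun a ha => hfix a (hR.le ha)) rfl
    have hgQ := fun x => (Subgroup.mem_normalizer_iff.mp hg x)
    set D := Subgroup.closure ((fun x => g * x * g⁻¹ * x⁻¹) '' (Q : Set G)) with hD
    have hDQ : D = Q := by
      have hle : D ≤ Q := (Subgroup.closure_le _).mpr (by
        rintro _ ⟨x, hx, rfl⟩
        exact Q.mul_mem ((hgQ x).mp hx) (Q.inv_mem hx))
      refine hle.eq_of_not_lt fun hlt => hcon (centralizes_of_commutators (D := D) hQ ho hg
        (fun x hx => Subgroup.subset_closure ⟨x, hx, rfl⟩) (hsub D hlt ?_))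
      exact commutators_invariant g _ fun x hx => (hgQ x).mp hx
    have hQ1 : Nontrivial Q := by
      rw [Subgroup.nontrivial_iff_ne_bot]
      rintro rfl
      apply hcon
      intro x hx
      rw [SetLike.mem_coe, Subgroup.mem_bot] at hx
      rw [hx, one_mul, mul_one]
    have := hQ.isNilpotent
    set N := (frattini Q).map Q.subtype with hN
    have hgN : g ∈ Subgroup.normalizer (N : Set G) := normalizer_le_normalizer_char Q (frattini Q) hg
    have hNlt : N < Q := by
      refine lt_of_le_of_ne (Subgroup.map_subtype_le _) fun h => ?_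
      have ht : frattini Q = ⊤ := by
        apply Subgroup.map_injective Q.subtype_injective
        rw [← hN, h, ← MonoidHom.range_eq_map, Subgroup.range_subtype]
      exact bot_ne_top (frattini_nongenerating (K := (⊥ : Subgroup Q)) (by rw [bot_sup_eq, ht]))
    have hfixN := hsub N hNlt hgN
    have hNcomm : ∀ n ∈ N, ∀ y ∈ Q, n * y = y * n := by
      intro n hn
      suffices D ≤ Subgroup.centralizer {n} by
        intro y hy
        rw [hDQ] at this
        exact (Subgroup.mem_centralizer_singleton_iff.mp (this hy)).symm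
      rw [hD, Subgroup.closure_le]
      rintro _ ⟨x, hx, rfl⟩
      have hxi : x⁻¹ ∈ Q := Q.inv_mem hx
      have hmem : ∀ z ∈ Q, z * n * z⁻¹ ∈ N := by
        intro z hz
        obtain ⟨m, hm, rfl⟩ := hn
        exact ⟨⟨z, hz⟩ * m * ⟨z, hz⟩⁻¹, Subgroup.Normal.conj_mem inferInstance m hm _, rfl⟩
      have h1 : g * n = n * g := (hfixN n hn).symm
      have h2 := (hfixN _ (hmem _ hxi)).symm
      rw [SetLike.mem_coe, Subgroup.mem_centralizer_singleton_iff]
      calc g * x * g⁻¹ * x⁻¹ * n = g * x * g⁻¹ * (x⁻¹ * n * x⁻¹⁻¹) * x⁻¹ := by group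
        _ = g * x * g⁻¹ * ((x⁻¹ * n * x⁻¹⁻¹) * g) * g⁻¹ * x⁻¹ := by group
        _ = g * x * g⁻¹ * (g * (x⁻¹ * n * x⁻¹⁻¹)) * g⁻¹ * x⁻¹ := by rw [h2]
        _ = g * n * x * g⁻¹ * x⁻¹ := by group
        _ = n * g * x * g⁻¹ * x⁻¹ := by rw [h1]
        _ = n * (g * x * g⁻¹ * x⁻¹) := by group
    have hpow : ∀ x ∈ Q, x ^ p ∈ N := fun x hx =>
      ⟨(⟨x, hx⟩ : Q) ^ p, Solvable.Basics.pow_mem_frattini hQ _, rfl⟩
    have hcm : ∀ x ∈ Q, ∀ y ∈ Q, x⁻¹ * y⁻¹ * x * y ∈ N := fun x hx y hy => by
      refine ⟨(⟨x, hx⟩ : Q)⁻¹ * ⟨y, hy⟩⁻¹ * ⟨x, hx⟩ * ⟨y, hy⟩, commutator_le_frattini Q ?_, rfl⟩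
      have := Subgroup.commutator_mem_commutator (Subgroup.mem_top ((⟨x, hx⟩ : Q)⁻¹))
        (Subgroup.mem_top ((⟨y, hy⟩ : Q)⁻¹))
      rw [commutatorElement_def, inv_inv, inv_inv] at this
      exact this
    apply hcon
    intro x hx
    set y := g * x * g⁻¹ * x⁻¹ with hy
    have hyQ : y ∈ Q := Q.mul_mem ((hgQ x).mp hx) (Q.inv_mem hx)
    set c := x⁻¹ * y⁻¹ * x * y with hc
    have hcN : c ∈ N := hcm x hx y hyQ
    have hcp : c ^ p = 1 := by
      have hxy : y⁻¹ * x * y = x * c := by rw [hc]; group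
      have h1 : (y⁻¹ * x * y) ^ p = x ^ p := by
        have := conj_pow (a := y⁻¹) (b := x) (i := p)
        rw [inv_inv] at this
        rw [this, mul_assoc, hNcomm _ (hpow x hx) y hyQ, ← mul_assoc, inv_mul_cancel, one_mul]
      rw [hxy, (show Commute x c from (hNcomm c hcN x hx).symm).mul_pow] at h1
      exact mul_eq_left.mp h1
    have hexp : y ^ p * c ^ p.choose 2 = 1 := by
      have h1 : (y * x) ^ p = y ^ p * x ^ p * c ^ p.choose 2 :=
        mul_pow_central (by rw [hc]; group) (hNcomm c hcN x hx) (hNcomm c hcN y hyQ) p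
      have h2 : (y * x) ^ p = x ^ p := by
        rw [show y * x = g * x * g⁻¹ by rw [hy]; group, conj_pow, ← (hfixN _ (hpow x hx)),
          mul_inv_cancel_right]
      rw [h2, mul_assoc, (hNcomm _ (hpow x hx) _ (Q.pow_mem (hNlt.le hcN) _)),
        ← mul_assoc, eq_comm, mul_eq_right] at h1
      exact h1
    have hfy : g * y = y * g := by
      refine hfix y hyQ ?_
      rcases hp.out.eq_two_or_odd' with rfl | hodd
      · refine Or.inr ⟨rfl, ?_⟩
        rw [Nat.choose_self, pow_one] at hexp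
        rw [show (4 : ℕ) = 2 * 2 from rfl, pow_mul, mul_eq_one_iff_eq_inv.mp hexp, inv_pow, hcp,
          inv_one]
      · left
        have : p ∣ p.choose 2 := hp.out.dvd_choose_self two_ne_zero
          (lt_of_le_of_ne hp.out.two_le fun h => by
            rw [← h] at hodd; exact absurd hodd (by decide))
        obtain ⟨m, hm⟩ := this
        rwa [hm, pow_mul, hcp, one_pow, mul_one] at hexp
    exact (eq_one_of_fix (x := x) hfy (coprime_of_mem hQ ho hyQ)).symm

/-- **Descent.** Commutators with `g` of small order elements move down a series reaching `⊥`. -/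
theorem mem_centralizer_of_descent [Finite G] [hp : Fact p.Prime] {g : G}
    (ho : (orderOf g).Coprime p) (L : ℕ → Subgroup G) (N : ℕ) (hLN : L N = ⊥) {Q : Subgroup G}
    (hQ : IsPGroup p Q) (hg : g ∈ Subgroup.normalizer (Q : Set G)) (hQL : Q ≤ L 0)
    (hstep : ∀ i, ∀ a ∈ Q, a ∈ L i → (a ^ p = 1 ∨ (p = 2 ∧ a ^ 4 = 1)) →
      g * a * g⁻¹ * a⁻¹ ∈ L (i + 1)) : g ∈ Subgroup.centralizer (Q : Set G) := by
  suffices ∀ k i, i + k = N → ∀ R : Subgroup G, R ≤ Q → R ≤ L i →
      g ∈ Subgroup.normalizer (R : Set G) → g ∈ Subgroup.centralizer (R : Set G) from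
    this N 0 (zero_add N) Q le_rfl hQL hg
  intro k
  induction k with
  | zero =>
    intro i hi R _ hR _ x hx
    rw [add_zero] at hi
    have := hR hx
    rw [hi, hLN, Subgroup.mem_bot] at this
    rw [this, one_mul, mul_one]
  | succ k ih =>
    intro i hi R hRQ hRL hgR
    refine mem_centralizer_of_fix ho (hQ.to_le hRQ) hgR ?_
    set S : Set G := {a | a ∈ R ∧ (a ^ p = 1 ∨ (p = 2 ∧ a ^ 4 = 1))}
    have hS : ∀ x ∈ S, g * x * g⁻¹ ∈ S := by
      rintro x ⟨hx, hxo⟩
      refine ⟨(Subgroup.mem_normalizer_iff.mp hgR x).mp hx, ?_⟩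
      rcases hxo with h | ⟨h2, h⟩
      · left; rw [conj_pow, h, mul_one, mul_inv_cancel]
      · right; exact ⟨h2, by rw [conj_pow, h, mul_one, mul_inv_cancel]⟩
    set D := Subgroup.closure ((fun x => g * x * g⁻¹ * x⁻¹) '' S)
    have hDR : D ≤ R := (Subgroup.closure_le _).mpr (by
      rintro _ ⟨x, hx, rfl⟩
      exact R.mul_mem ((Subgroup.mem_normalizer_iff.mp hgR x).mp hx.1) (R.inv_mem hx.1))
    have hDL : D ≤ L (i + 1) := (Subgroup.closure_le _).mpr (by
      rintro _ ⟨x, hx, rfl⟩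
      exact hstep i x (hRQ hx.1) (hRL hx.1) hx.2)
    have hc := ih (i + 1) (by omega) D (hDR.trans hRQ) hDL (commutators_invariant g S hS)
    intro a ha hao
    exact eq_one_of_fix (hc _ (Subgroup.subset_closure ⟨a, ⟨ha, hao⟩, rfl⟩)).symm
      (coprime_of_mem hQ ho (hRQ (hDR (Subgroup.subset_closure ⟨a, ⟨ha, hao⟩, rfl⟩))))

end Cfsg.Agent.Coprime.OmegaDetect
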