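import Cfsg.Agent.Lib.Coprime.Action

/-!
Invariant Sylow subgroups under coprime action. A Sylow subgroup `P : Sylow p K` is viewed in the
ambient group as `(P : Subgroup K).map K.subtype`.
-/

set_option autoImplicit false

namespace Cfsg.Agent.Coprime

open scoped Pointwise

variable {G : Type*} [Group G] {p : ℕ}

theorem sylow_map_smul {K : Subgroup G} (c : K) (P : Sylow p K) :
    ((MulAut.conj c • P : Sylow p K) : Subgroup K).map K.subtype =
      MulAut.conj (c : G) • (P : Subgroup K).map K.subtype := by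
  rw [Sylow.pointwise_smul_def, map_conj_smul]
  rfl

/-- A subgroup of `K` of the order of a Sylow subgroup is `K`-conjugate to it. -/
theorem exists_conj_sylow_map [Finite G] [Fact p.Prime] {H K : Subgroup G} (hHK : H ≤ K)
    (P : Sylow p K) (hcard : Nat.card H = Nat.card P) :
    ∃ k ∈ K, H = MulAut.conj k • (P : Subgroup K).map K.subtype := by
  let Q : Sylow p K := Sylow.ofCard (H.subgroupOf K) (by
    rw [Nat.card_congr (Subgroup.subgroupOfEquivOfLe hHK).toEquiv, hcard, P.card_eq_multiplicity])
  obtain ⟨k, hk⟩ := MulAction.exists_smul_eq K P Q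
  refine ⟨k, k.2, ?_⟩
  have h : (Q : Subgroup K).map K.subtype = H := by
    simp only [Q, Sylow.coe_ofCard, Subgroup.map_subgroupOf_eq_of_le hHK]
  rw [← h, ← hk, Sylow.coe_subgroup_smul, map_conj_smul]
  rfl

/-- Every prime has an `A`-invariant Sylow subgroup in `K`. -/
theorem exists_invariant_sylow [Finite G] (p : ℕ) [Fact p.Prime] {A K : Subgroup G}
    (hAK : A ≤ Subgroup.normalizer (K : Set G)) (hcop : (Nat.card A).Coprime (Nat.card K))
    (hsolv : Group.IsSolvable A ∨ Group.IsSolvable K) :
    ∃ P : Sylow p K, A ≤ Subgroup.normalizer ((P : Subgroup K).map K.subtype : Set G) := by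
  obtain ⟨P⟩ : Nonempty (Sylow p K) := inferInstance
  obtain ⟨k, hk, hinv⟩ := exists_conj_invariant hAK hcop hsolv
    (H := (P : Subgroup K).map K.subtype) (fun a ha => exists_conj_sylow_map (by
      exact le_trans (Subgroup.pointwise_smul_le_pointwise_smul_iff.mpr (Subgroup.map_subtype_le _))
        (le_of_eq (conj_smul_eq_self_iff.mpr (hAK ha)))) P (by
      rw [card_conj_smul, Subgroup.card_subtype]))
  exact ⟨MulAut.conj (⟨k, hk⟩ : K) • P, by rwa [sylow_map_smul]⟩

/-- Invariant Sylow subgroups are conjugate under the fixed points. -/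
theorem exists_centralizer_conj_sylow [Finite G] [Fact p.Prime] {A K : Subgroup G}
    (hAK : A ≤ Subgroup.normalizer (K : Set G)) (hcop : (Nat.card A).Coprime (Nat.card K))
    (hsolv : Group.IsSolvable A ∨ Group.IsSolvable K) (P Q : Sylow p K)
    (hP : A ≤ Subgroup.normalizer ((P : Subgroup K).map K.subtype : Set G))
    (hQ : A ≤ Subgroup.normalizer ((Q : Subgroup K).map K.subtype : Set G)) :
    ∃ c : K, (c : G) ∈ Subgroup.centralizer (A : Set G) ∧ MulAut.conj c • P = Q := by
  obtain ⟨k, hk, hkeq⟩ := exists_conj_sylow_map (Subgroup.map_subtype_le (Q : Subgroup K)) P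
    (by rw [Subgroup.card_subtype, P.card_eq_multiplicity, Q.card_eq_multiplicity])
  obtain ⟨c, hc, hceq⟩ := exists_centralizer_conj_eq hAK hcop hsolv hP hQ hk hkeq.symm
  refine ⟨⟨c, hc.1⟩, hc.2,
    Sylow.ext (Subgroup.map_injective (f := K.subtype) Subtype.coe_injective ?_)⟩
  rw [← hceq]
  exact sylow_map_smul _ P

/-- An invariant `p`-subgroup lies in an invariant Sylow subgroup. -/
theorem exists_invariant_sylow_ge [Finite G] [Fact p.Prime] {A K U : Subgroup G}
    (hAK : A ≤ Subgroup.normalizer (K : Set G)) (hcop : (Nat.card A).Coprime (Nat.card K))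
    (hsolv : Group.IsSolvable A ∨ Group.IsSolvable K) (hUK : U ≤ K) (hU : IsPGroup p U)
    (hUA : A ≤ Subgroup.normalizer (U : Set G)) :
    ∃ P : Sylow p K, U ≤ (P : Subgroup K).map K.subtype ∧
      A ≤ Subgroup.normalizer ((P : Subgroup K).map K.subtype : Set G) := by
  obtain ⟨Q, hUQ, ⟨hQK, hQp, hQA⟩, hmax⟩ := Set.Finite.exists_le_maximal
    (Set.toFinite {Q : Subgroup G | Q ≤ K ∧ IsPGroup p Q ∧ A ≤ Subgroup.normalizer (Q : Set G)})
    (a := U) ⟨hUK, hU, hUA⟩
  obtain ⟨n, hn⟩ := IsPGroup.iff_card.mp hQp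
  have hcardQk : Nat.card (Q.subgroupOf K) = p ^ n := by
    rw [Nat.card_congr (Subgroup.subgroupOfEquivOfLe hQK).toEquiv, hn]
  by_cases hdvd : p ^ (n + 1) ∣ Nat.card K
  · exfalso
    have hidx := Sylow.prime_dvd_card_quotient_normalizer hdvd hcardQk
    let L := K ⊓ Subgroup.normalizer (Q : Set G)
    have hL : (Subgroup.normalizer ((Q.subgroupOf K : Subgroup K) : Set K)).map K.subtype = L := by
      rw [← Subgroup.subgroupOf_normalizer_eq hQK, Subgroup.subgroupOf_map_subtype, inf_comm]
    rw [← Subgroup.index_eq_card] at hidx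
    have hrel : p ∣ Q.relIndex L := by
      have h := Subgroup.relIndex_map_map_of_injective (Q.subgroupOf K)
        (Subgroup.normalizer ((Q.subgroupOf K : Subgroup K) : Set K)) (f := K.subtype)
        Subtype.coe_injective
      rw [Subgroup.map_subgroupOf_eq_of_le hQK, hL] at h
      rw [h]
      exact hidx
    have hLA : A ≤ Subgroup.normalizer (L : Set G) :=
      le_trans (le_inf hAK (hQA.trans Subgroup.le_normalizer))
        Subgroup.inf_normalizer_le_normalizer_inf
    obtain ⟨P, hP⟩ := exists_invariant_sylow p hLA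
      (hcop.coprime_dvd_right (Subgroup.card_dvd_of_le inf_le_left))
      (hsolv.imp_right (isSolvable_of_le inf_le_left))
    have hPle := Subgroup.map_subtype_le (P : Subgroup L)
    have hPp : IsPGroup p ((P : Subgroup L).map L.subtype) := P.2.map _
    have hnorm : (P : Subgroup L).map L.subtype ≤ Subgroup.normalizer (Q : Set G) :=
      hPle.trans inf_le_right
    have hQL : Q ≤ L := le_inf hQK Subgroup.le_normalizer
    have hsup : (P : Subgroup L).map L.subtype ⊔ Q ≤ Q :=
      hmax ⟨sup_le (hPle.trans inf_le_left) hQK, hPp.to_sup_of_normal_right' hQp hnorm,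
        fun a ha => by
          rw [← conj_smul_eq_self_iff, Subgroup.smul_sup, conj_smul_eq_self_iff.mpr (hP ha),
            conj_smul_eq_self_iff.mpr (hQA ha)]⟩ le_sup_right
    have h1 : (P : Subgroup L) ≤ Q.subgroupOf L := fun x hx =>
      hsup (Subgroup.mem_sup_left (Subgroup.mem_map_of_mem _ hx))
    exact P.not_dvd_index (hrel.trans (Subgroup.index_dvd_of_le h1))
  · refine ⟨Sylow.ofCard (Q.subgroupOf K) ?_, ?_, ?_⟩
    · rw [hcardQk]
      congr 1
      refine le_antisymm ?_ (Nat.le_of_lt_succ ?_)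
      · exact ((Fact.out : p.Prime).pow_dvd_iff_le_factorization Nat.card_pos.ne').mp
          (hn ▸ Subgroup.card_dvd_of_le hQK)
      · by_contra h
        exact hdvd (((Fact.out : p.Prime).pow_dvd_iff_le_factorization Nat.card_pos.ne').mpr
          (Nat.le_of_not_lt h))
    · rw [Sylow.coe_ofCard, Subgroup.map_subgroupOf_eq_of_le hQK]; exact hUQ
    · rw [Sylow.coe_ofCard, Subgroup.map_subgroupOf_eq_of_le hQK]; exact hQA

end Cfsg.Agent.Coprime
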