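import Cfsg.Agent.Lib.Coprime.PGroup
import Cfsg.Agent.Lib.Coprime.Sylow
import Mathlib.GroupTheory.SpecificGroups.Cyclic
import Mathlib.GroupTheory.Abelianization.Defs

/-!
Generation of a group by the fixed points of the nontrivial elements of a noncyclic abelian group
acting coprimely.
-/

set_option autoImplicit false

namespace Cfsg.Agent.Coprime

open scoped Pointwise IsMulCommutative

variable {G : Type*} [Group G]

/-- A finite noncyclic abelian group has, for some prime `q`, more than `q` solutions of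
`x ^ q = 1`; in particular two independent elements of order `q`. -/
theorem exists_two_independent_of_not_isCyclic (A : Type*) [CommGroup A] [Finite A]
    (hA : ¬ IsCyclic A) :
    ∃ q : ℕ, q.Prime ∧ ∃ x y : A, x ≠ 1 ∧ x ^ q = 1 ∧ y ^ q = 1 ∧ y ∉ Subgroup.zpowers x := by
  by_contra hcon
  push Not at hcon
  have hp : ∀ q : ℕ, q.Prime → Nat.card (powMonoidHom q : A →* A).ker ≤ q := by
    intro q hq
    by_cases h : ∃ x : A, x ≠ 1 ∧ x ^ q = 1
    · obtain ⟨x, hx1, hxq⟩ := h
      have hle : (powMonoidHom q : A →* A).ker ≤ Subgroup.zpowers x := fun y hy =>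
        hcon q hq x y hx1 hxq hy
      refine (Subgroup.card_le_of_le hle).trans (le_of_eq_of_le (Nat.card_zpowers x) ?_)
      exact Nat.le_of_dvd hq.pos (orderOf_dvd_of_pow_eq_one hxq)
    · push Not at h
      have hbot : (powMonoidHom q : A →* A).ker = ⊥ := by
        refine (Subgroup.eq_bot_iff_forall _).mpr fun x hx => ?_
        by_contra hne
        exact h x hne hx
      rw [hbot, Subgroup.card_bot]
      exact hq.pos
  have hall : ∀ n : ℕ, 0 < n → Nat.card (powMonoidHom n : A →* A).ker ≤ n := by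
    intro n
    induction n using Nat.strongRecOn with
    | ind n ih =>
      intro hn
      rcases eq_or_ne n 1 with rfl | hn1
      · have hbot : (powMonoidHom 1 : A →* A).ker = ⊥ :=
          (Subgroup.eq_bot_iff_forall _).mpr fun x hx => by simpa [MonoidHom.mem_ker] using hx
        rw [hbot, Subgroup.card_bot]
      · obtain ⟨q, hq, m, rfl⟩ := Nat.exists_prime_and_dvd hn1
        have hm : 0 < m := Nat.pos_of_mul_pos_left hn
        have hmlt : m < q * m := lt_mul_of_one_lt_left hm hq.one_lt
        let f : (powMonoidHom (q * m) : A →* A).ker →* (powMonoidHom q : A →* A).ker :=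
          ((powMonoidHom m).comp (Subgroup.subtype _)).codRestrict _ fun x => by
            have hx := x.2
            simp only [MonoidHom.mem_ker, powMonoidHom_apply, MonoidHom.comp_apply,
              Subgroup.coe_subtype] at hx ⊢
            rw [← pow_mul', hx]
        have hker : Nat.card f.ker ≤ Nat.card (powMonoidHom m : A →* A).ker := by
          refine Nat.card_le_card_of_injective (fun x => ⟨x.1.1, ?_⟩) ?_
          · have hx := congrArg Subtype.val (MonoidHom.mem_ker.mp x.2)
            simpa [f] using hx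
          · intro x y hxy
            exact Subtype.ext (Subtype.ext (congrArg Subtype.val hxy :))
        rw [← Subgroup.card_mul_index f.ker, Subgroup.index_ker]
        refine le_of_le_of_eq ?_ (mul_comm m q)
        exact Nat.mul_le_mul (hker.trans (ih m hmlt hm))
          ((Subgroup.card_le_card_group _).trans (hp q hq))
  classical
  have := Fintype.ofFinite A
  refine hA (isCyclic_of_card_pow_eq_one_le fun n hn => le_of_eq_of_le ?_ (hall n hn))
  rw [Nat.card_eq_fintype_card, Fintype.card_subtype]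
  congr 1
  ext x
  simp [MonoidHom.mem_ker]

/-- Abelian step: if `x`, `y` generate a noncyclic elementary abelian `q`-group acting on an
abelian group and `H` contains every fixed point of every nontrivial element then `v ^ q ∈ H`. -/
theorem pow_mem_of_fixed_mem {V E : Type*} [CommGroup V] [Group E] (ρ : E →* (V ≃* V))
    (H : Subgroup V) {q : ℕ} (hq : q.Prime) {x y : E} (hxy : Commute x y) (hy : y ^ q = 1)
    (hx : x ^ q = 1) (hy1 : y ≠ 1) (hind : ∀ j : ℕ, x * y ^ j ≠ 1)
    (hH : ∀ (e : E) (v : V), e ≠ 1 → ρ e v = v → v ∈ H) (v : V) : v ^ q ∈ H := by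
  classical
  have hN : ∀ e : E, e ≠ 1 → e ^ q = 1 → ∀ w : V, ∏ i ∈ Finset.range q, ρ (e ^ i) w ∈ H := by
    intro e he heq w
    refine hH e _ he ?_
    rw [map_prod]
    have h1 : ∀ i, ρ e (ρ (e ^ i) w) = ρ (e ^ (i + 1)) w := fun i => by
      rw [pow_succ', map_mul]; rfl
    simp only [h1]
    obtain ⟨k, rfl⟩ : ∃ k, q = k + 1 := ⟨q - 1, by have := hq.pos; omega⟩
    rw [Finset.prod_range_succ, Finset.prod_range_succ' _ k, heq, pow_zero]
  have hL : ∏ j ∈ Finset.range q, ∏ i ∈ Finset.range q, ρ ((x * y ^ j) ^ i) v ∈ H := by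
    refine Subgroup.prod_mem _ fun j _ => hN _ (hind j) ?_ v
    rw [(hxy.pow_right j).mul_pow, hx, ← pow_mul, mul_comm j q, pow_mul, hy, one_pow, one_mul]
  rw [Finset.prod_comm] at hL
  obtain ⟨k, rfl⟩ : ∃ k, q = k + 1 := ⟨q - 1, by have := hq.pos; omega⟩
  rw [Finset.prod_range_succ'] at hL
  have h0 : ∏ j ∈ Finset.range (k + 1), ρ ((x * y ^ j) ^ 0) v = v ^ (k + 1) := by simp
  rw [h0] at hL
  refine (Subgroup.mul_mem_cancel_left H (Subgroup.prod_mem _ fun i hi => ?_)).mp hL
  have hi' : i + 1 < k + 1 := by have := Finset.mem_range.mp hi; omega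
  have hne : y ^ (i + 1) ≠ 1 := fun h => by
    have := Fact.mk hq
    rw [← orderOf_dvd_iff_pow_eq_one, orderOf_eq_prime hy hy1] at h
    exact absurd (Nat.le_of_dvd (Nat.succ_pos i) h) (by omega)
  have h2 := hN _ hne (by rw [← pow_mul, mul_comm, pow_mul, hy, one_pow]) (ρ (x ^ (i + 1)) v)
  convert h2 using 2 with j
  rw [← MulAut.mul_apply, ← map_mul, (hxy.pow_right j).mul_pow, ← pow_mul, ← pow_mul,
    mul_comm j, (hxy.pow_pow _ _).eq]

/-- The subgroup generated by the fixed points, in `K`, of the nontrivial elements of `A`. -/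
def fixedGen (A K : Subgroup G) : Subgroup G :=
  ⨆ a ∈ {a : G | a ∈ A ∧ a ≠ 1}, K ⊓ Subgroup.centralizer {a}

theorem inf_centralizer_le_fixedGen {A K : Subgroup G} {a : G} (ha : a ∈ A) (ha1 : a ≠ 1) :
    K ⊓ Subgroup.centralizer {a} ≤ fixedGen A K :=
  le_iSup₂ (f := fun a _ => K ⊓ Subgroup.centralizer {a}) a ⟨ha, ha1⟩

theorem fixedGen_le (A K : Subgroup G) : fixedGen A K ≤ K := iSup₂_le fun _ _ => inf_le_left

theorem fixedGen_mono {A K L : Subgroup G} (h : K ≤ L) : fixedGen A K ≤ fixedGen A L :=
  iSup₂_le fun a ha => (inf_le_inf_right _ h).trans (inf_centralizer_le_fixedGen ha.1 ha.2)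

theorem fixedGen_sup_commutator [Finite G] {A K : Subgroup G} [IsMulCommutative A]
    (hA : ¬ IsCyclic A) (hAK : A ≤ Subgroup.normalizer (K : Set G))
    (hcop : (Nat.card A).Coprime (Nat.card K)) : fixedGen A K ⊔ ⁅K, K⁆ = K := by
  obtain ⟨q, hq, x, y, hx1, hx, hy, hyx⟩ := exists_two_independent_of_not_isCyclic A hA
  let conjK : A →* (K ≃* K) :=
    (Subgroup.normalizerMonoidHom K).comp (Subgroup.inclusion hAK)
  let ρ : A →* (Abelianization K ≃* Abelianization K) :=
    { toFun := fun a => MulEquiv.abelianizationCongr (conjK a)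
      map_one' := by
        apply MulEquiv.ext; intro v
        induction v using QuotientGroup.induction_on with
        | _ k => exact congrArg Abelianization.of (by rw [map_one]; rfl)
      map_mul' := fun a b => by
        apply MulEquiv.ext; intro v
        induction v using QuotientGroup.induction_on with
        | _ k => exact congrArg Abelianization.of (by rw [map_mul]; rfl) }
  let H' : Subgroup (Abelianization K) := ((fixedGen A K).subgroupOf K).map Abelianization.of
  have hH : ∀ (e : A) (v : Abelianization K), e ≠ 1 → ρ e v = v → v ∈ H' := by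
    intro e v he hv
    obtain ⟨⟨k, hk⟩, rfl⟩ : ∃ k, Abelianization.of k = v := Quotient.mk_surjective v
    have hv' : Abelianization.of (conjK e ⟨k, hk⟩) = Abelianization.of ⟨k, hk⟩ := hv
    have hmem : conjK e ⟨k, hk⟩ * (⟨k, hk⟩ : K)⁻¹ ∈ commutator K := by
      rw [← Abelianization.ker_of, MonoidHom.mem_ker, map_mul, map_inv, hv', mul_inv_cancel]
    have hfix : (e : G) * k * (e : G)⁻¹ * k⁻¹ ∈ ⁅K, K⁆ := by
      rw [← Subgroup.map_subtype_commutator]
      exact ⟨_, hmem, rfl⟩
    have hKD : K ≤ Subgroup.normalizer ((⁅K, K⁆ : Subgroup G) : Set G) :=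
      Subgroup.normalizer_commutator_ge_left K K
    have hAD : A ≤ Subgroup.normalizer ((⁅K, K⁆ : Subgroup G) : Set G) := fun a ha => by
      rw [← conj_smul_eq_self_iff, conj_smul_commutator, conj_smul_eq_self_iff.mpr (hAK ha)]
    have hD : ⁅K, K⁆ ≤ K := commutator_le_of_le_normalizer Subgroup.le_normalizer
    let S : Subgroup G := Subgroup.zpowers (e : G)
    have hSA : S ≤ A := Subgroup.zpowers_le.mpr e.2
    obtain ⟨c, hc, hkc⟩ := exists_fixed_mod (A := S)
      (hcop.coprime_dvd_left (Subgroup.card_dvd_of_le hSA))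
      (Or.inl (isSolvable_of_isMulCommutative S)) hD hKD (hSA.trans hAD) hk (fun a ha => by
        obtain ⟨n, rfl⟩ := Submonoid.mem_powers_iff _ _ |>.mp
          (mem_powers_iff_mem_zpowers.mpr ha)
        induction n with
        | zero => simp [one_mem]
        | succ n ih =>
          have h := mul_mem ((Subgroup.le_normalizer_iff.mp (hAD)) (e : G) e.2 _
            (ih (pow_mem (Subgroup.mem_zpowers _) n))) hfix
          simpa [pow_succ', mul_assoc] using h)
    have hcgen : c ∈ fixedGen A K := inf_centralizer_le_fixedGen e.2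
      (fun h => he (Subtype.ext h)) ⟨hc.1, Subgroup.mem_centralizer_iff.mpr fun z hz =>
        Subgroup.mem_centralizer_iff.mp hc.2 z (hz ▸ Subgroup.mem_zpowers _)⟩
    refine ⟨⟨c, hc.1⟩, hcgen, ?_⟩
    rw [eq_comm, ← inv_mul_eq_one, ← map_inv, ← map_mul, ← MonoidHom.mem_ker,
      Abelianization.ker_of]
    rw [← Subgroup.map_subtype_commutator] at hkc
    obtain ⟨z, hz, hzc⟩ := hkc
    rwa [show (⟨k, hk⟩⁻¹ * ⟨c, hc.1⟩ : K) = z from Subtype.ext hzc.symm]
  have hy1 : y ≠ 1 := fun h => hyx (h ▸ one_mem _)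
  have hind : ∀ j : ℕ, x * y ^ j ≠ 1 := by
    intro j h
    have := Fact.mk hq
    have hord : orderOf y = q := orderOf_eq_prime hy hy1
    have hj : y ^ j ∈ Subgroup.zpowers x := by
      rw [← inv_eq_of_mul_eq_one_right h]; exact inv_mem (Subgroup.mem_zpowers x)
    by_cases hdvd : q ∣ j
    · rw [← hord, orderOf_dvd_iff_pow_eq_one] at hdvd
      rw [hdvd, mul_one] at h
      exact hx1 h
    · refine hyx ?_
      have hcj : (orderOf y).Coprime j := hord.symm ▸ hq.coprime_iff_not_dvd.mpr hdvd
      obtain ⟨m, hm⟩ := exists_pow_eq_self_of_coprime hcj.symm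
      exact hm ▸ pow_mem hj m
  have hqpow := pow_mem_of_fixed_mem ρ H' hq (Commute.all x y) hy hx hy1 hind
    hH
  have hq' : q ∣ Nat.card A := by
    have := Fact.mk hq
    exact orderOf_eq_prime hx hx1 ▸ orderOf_dvd_natCard x
  refine le_antisymm (sup_le (fixedGen_le A K)
    (commutator_le_of_le_normalizer Subgroup.le_normalizer)) fun k hk => ?_
  have hcq : (Nat.card (Abelianization K)).Coprime q :=
    ((hcop.coprime_dvd_left hq').coprime_dvd_right (Subgroup.card_quotient_dvd_card _)).symm
  obtain ⟨w, hw⟩ := (powCoprime hcq).surjective (Abelianization.of (⟨k, hk⟩ : K))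
  have hw' : w ^ q = Abelianization.of (⟨k, hk⟩ : K) := hw
  have h2 := hqpow w
  rw [hw'] at h2
  obtain ⟨⟨h, hh⟩, hhmem, heq⟩ := h2
  rw [eq_comm, ← inv_mul_eq_one, ← map_inv, ← map_mul, ← MonoidHom.mem_ker,
    Abelianization.ker_of] at heq
  have hD : k⁻¹ * h ∈ ⁅K, K⁆ := by
    rw [← Subgroup.map_subtype_commutator]; exact ⟨_, heq, rfl⟩
  simpa using Subgroup.mul_mem_sup (Subgroup.mem_subgroupOf.mp hhmem) (inv_mem hD)

/-- If a noncyclic abelian group `A` acts coprimely on `K` then `K` is generated by the fixed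
points of the nontrivial elements of `A`. -/
theorem fixedGen_eq [Finite G] {A K : Subgroup G} [IsMulCommutative A]
    (hA : ¬ IsCyclic A) (hAK : A ≤ Subgroup.normalizer (K : Set G))
    (hcop : (Nat.card A).Coprime (Nat.card K)) : fixedGen A K = K := by
  refine Subgroup.eq_of_le_of_card_ge (fixedGen_le A K) (Nat.le_of_dvd Nat.card_pos ?_)
  rw [Nat.dvd_iff_prime_pow_dvd_dvd]
  intro p n hp hdvd
  have := Fact.mk hp
  obtain ⟨P, hP⟩ := exists_invariant_sylow p hAK hcop (Or.inl (isSolvable_of_isMulCommutative A))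
  have hPK := Subgroup.map_subtype_le (P : Subgroup K)
  have hPn : Group.IsNilpotent ↥((P : Subgroup K).map K.subtype) := (P.2.map _).isNilpotent
  have hgen := eq_of_le_of_sup_commutator_eq (fixedGen_le A _)
    (fixedGen_sup_commutator hA hP (hcop.coprime_dvd_right (Subgroup.card_dvd_of_le hPK)))
  refine dvd_trans ?_ (Subgroup.card_dvd_of_le (hgen ▸ fixedGen_mono hPK))
  rw [Subgroup.card_subtype, P.card_eq_multiplicity]
  exact pow_dvd_pow p ((hp.pow_dvd_iff_le_factorization Nat.card_pos.ne').mp hdvd)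

end Cfsg.Agent.Coprime
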