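import Cfsg.Agent.Lib.Coprime.Generation
import Cfsg.Agent.Lib.PGroups.UniqueSubgroup
import Mathlib.GroupTheory.FixedPointFree
import Mathlib.GroupTheory.GroupAction.Quotient

/-!
Groups `A` acting without fixed points on a nontrivial subgroup `K` of the ambient group:
`A ≤ normalizer K` and `K ⊓ centralizer {a} = ⊥` for `1 ≠ a ∈ A`.
-/

set_option autoImplicit false

namespace Cfsg.Agent.Coprime

open scoped Pointwise IsMulCommutative

variable {G : Type*} [Group G]

/-- `A` acts on `K` without fixed points. -/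
theorem fpf_eq_one {A K : Subgroup G} (hfpf : ∀ a ∈ A, a ≠ 1 → K ⊓ Subgroup.centralizer {a} = ⊥)
    {a v : G} (ha : a ∈ A) (ha1 : a ≠ 1) (hv : v ∈ K) (h : v * a = a * v) : v = 1 := by
  have hm : v ∈ K ⊓ Subgroup.centralizer ({a} : Set G) :=
    Subgroup.mem_inf.mpr ⟨hv, Subgroup.mem_centralizer_singleton_iff.mpr h⟩
  rw [hfpf a ha ha1, Subgroup.mem_bot] at hm
  exact hm

theorem fpf_mono {A B K L : Subgroup G}
    (hfpf : ∀ a ∈ A, a ≠ 1 → K ⊓ Subgroup.centralizer {a} = ⊥) (hBA : B ≤ A) (hLK : L ≤ K) :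
    ∀ a ∈ B, a ≠ 1 → L ⊓ Subgroup.centralizer {a} = ⊥ :=
  fun a ha ha1 => le_bot_iff.mp ((inf_le_inf_right _ hLK).trans (hfpf a (hBA ha) ha1).le)

/-- A group acting without fixed points on `K` has order dividing `|K| - 1`. -/
theorem fpf_card_mod [Finite G] {A K : Subgroup G} (hAK : A ≤ Subgroup.normalizer (K : Set G))
    (hfpf : ∀ a ∈ A, a ≠ 1 → K ⊓ Subgroup.centralizer {a} = ⊥) :
    Nat.card K % Nat.card A = 1 % Nat.card A := by
  classical
  let ρ : A →* (K ≃* K) := (Subgroup.normalizerMonoidHom K).comp (Subgroup.inclusion hAK)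
  let X := {v : K // v ≠ 1}
  letI : MulAction A X :=
    { smul := fun a v => ⟨ρ a v.1, fun h => v.2 ((ρ a).map_eq_one_iff.mp h)⟩
      one_smul := fun v => Subtype.ext (by
        change ρ 1 v.1 = v.1
        rw [map_one]; rfl)
      mul_smul := fun a b v => Subtype.ext (by
        change ρ (a * b) v.1 = ρ a (ρ b v.1)
        rw [map_mul]; rfl) }
  have hstab : ∀ v : X, MulAction.stabilizer A v = ⊥ := by
    intro v
    rw [Subgroup.eq_bot_iff_forall]
    intro a ha
    by_contra ha1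
    have h : ρ a v.1 = v.1 := congrArg Subtype.val (MulAction.mem_stabilizer_iff.mp ha)
    have h' : (a : G) * (v.1 : G) * (a : G)⁻¹ = v.1 := congrArg Subtype.val h
    exact v.2 (Subtype.ext (fpf_eq_one hfpf a.2 (fun h => ha1 (Subtype.ext h)) v.1.2
      (mul_inv_eq_iff_eq_mul.mp h').symm))
  have hcard : Nat.card X = Nat.card (MulAction.orbitRel.Quotient A X) * Nat.card A := by
    rw [← Nat.card_prod]
    refine Nat.card_congr ((MulAction.selfEquivSigmaOrbitsQuotientStabilizer A X).trans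
      ((Equiv.sigmaCongrRight fun ω => ?_).trans (Equiv.sigmaEquivProd _ _)))
    exact (Subgroup.quotientEquivOfEq (hstab _)).trans (QuotientGroup.quotientBot (G := A)).toEquiv
  have hK : Nat.card K = Nat.card X + 1 := by
    have h : Nat.card K = Nat.card {v : K // v = 1} + Nat.card X := by
      rw [← Nat.card_sum]; exact Nat.card_congr (Equiv.sumCompl _).symm
    rw [h, Nat.card_unique, add_comm]
  rw [hK, hcard, add_comm, Nat.add_mul_mod_self_right]

theorem fpf_coprime [Finite G] {A K : Subgroup G} (hAK : A ≤ Subgroup.normalizer (K : Set G))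
    (hfpf : ∀ a ∈ A, a ≠ 1 → K ⊓ Subgroup.centralizer {a} = ⊥) :
    (Nat.card A).Coprime (Nat.card K) := by
  refine Nat.coprime_of_dvd fun q hq hqA hqK => ?_
  have h : Nat.card K ≡ 1 [MOD q] := Nat.ModEq.of_dvd hqA (fpf_card_mod hAK hfpf)
  exact hq.ne_one (Nat.dvd_one.mp
    (Nat.modEq_zero_iff_dvd.mp (h.symm.trans (Nat.modEq_zero_iff_dvd.mpr hqK))))

/-- A solvable group acting without fixed points on a nontrivial group also does so on a nontrivial
abelian subgroup. -/
theorem fpf_exists_abelian [Finite G] {A K : Subgroup G}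
    (hAK : A ≤ Subgroup.normalizer (K : Set G))
    (hfpf : ∀ a ∈ A, a ≠ 1 → K ⊓ Subgroup.centralizer {a} = ⊥)
    (hsolv : Group.IsSolvable A ∨ Group.IsSolvable K) (hK : K ≠ ⊥) :
    ∃ V : Subgroup G, V ≤ K ∧ V ≠ ⊥ ∧ IsMulCommutative V ∧
      A ≤ Subgroup.normalizer (V : Set G) := by
  obtain ⟨p, hp, hdvd⟩ := Nat.exists_prime_and_dvd
    (mt Subgroup.card_eq_one.mp hK : Nat.card K ≠ 1)
  have := Fact.mk hp
  obtain ⟨P, hP⟩ := exists_invariant_sylow p hAK (fpf_coprime hAK hfpf) hsolv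
  have : Group.IsNilpotent (P : Subgroup K) := P.2.isNilpotent
  have : Nontrivial (P : Subgroup K) :=
    (Subgroup.nontrivial_iff_ne_bot _).mpr (P.ne_bot_of_dvd_card hdvd)
  let Q := (P : Subgroup K).map K.subtype
  refine ⟨Q ⊓ Subgroup.centralizer (Q : Set G), inf_le_left.trans (Subgroup.map_subtype_le _),
    ?_, ?_, ?_⟩
  · obtain ⟨⟨z, hzP⟩, hz, hz1⟩ := (Subgroup.bot_or_exists_ne_one _).resolve_left
      (Group.IsNilpotent.center_ne_bot (P : Subgroup K))
    intro h
    have hm : (z : G) ∈ Q ⊓ Subgroup.centralizer (Q : Set G) := by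
      refine Subgroup.mem_inf.mpr ⟨⟨z, hzP, rfl⟩, Subgroup.mem_centralizer_iff.mpr ?_⟩
      rintro _ ⟨w, hw, rfl⟩
      exact congrArg (fun t : (P : Subgroup K) => ((t : K) : G))
        (Subgroup.mem_center_iff.mp hz ⟨w, hw⟩)
    rw [h, Subgroup.mem_bot] at hm
    exact hz1 (Subtype.ext (Subtype.ext hm))
  · rw [← Subgroup.le_centralizer_iff_isMulCommutative]
    exact inf_le_right.trans (Subgroup.centralizer_le inf_le_left)
  · intro a ha
    refine Subgroup.inf_normalizer_le_normalizer_inf (Subgroup.mem_inf.mpr ⟨hP ha, ?_⟩)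
    rw [Subgroup.mem_normalizer_iff]
    intro z
    have hQ := Subgroup.mem_normalizer_iff.mp (hP ha)
    simp only [Subgroup.mem_centralizer_iff]
    refine ⟨fun hz w hw => ?_, fun hz w hw => ?_⟩
    · have h1 := hz (a⁻¹ * w * a) ((Subgroup.mem_normalizer_iff''.mp (hP ha) w).mp hw)
      calc w * (a * z * a⁻¹) = a * (a⁻¹ * w * a * z) * a⁻¹ := by group
        _ = a * (z * (a⁻¹ * w * a)) * a⁻¹ := by rw [h1]
        _ = a * z * a⁻¹ * w := by group
    · have h1 := hz (a * w * a⁻¹) ((hQ w).mp hw)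
      calc w * z = a⁻¹ * (a * w * a⁻¹ * (a * z * a⁻¹)) * a := by group
        _ = a⁻¹ * (a * z * a⁻¹ * (a * w * a⁻¹)) * a := by rw [h1]
        _ = z * w := by group

/-- The norm trick: `a` of prime order `p` and `x` of prime order `q` outside `⟨a⟩`, normalising
it, with all `aʲ x` of order `q`, cannot act without fixed points on a nontrivial abelian group. -/
theorem fpf_norm_contradiction [Finite G] {A V : Subgroup G} [IsMulCommutative V]
    (hAV : A ≤ Subgroup.normalizer (V : Set G))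
    (hfpf : ∀ a ∈ A, a ≠ 1 → V ⊓ Subgroup.centralizer {a} = ⊥) (hV : V ≠ ⊥)
    {a x : G} {p q r : ℕ} (hp : p.Prime) (hq : q.Prime) (ha : a ∈ A) (hx : x ∈ A)
    (hoa : orderOf a = p) (hox : orderOf x = q) (hxa : x ∉ Subgroup.zpowers a)
    (hr : x * a * x⁻¹ = a ^ r) (hall : ∀ j : ℕ, (a ^ j * x) ^ q = 1) : False := by
  classical
  have := Fact.mk hp
  have := Fact.mk hq
  have hcop := fpf_coprime hAV hfpf
  let ρ : A →* (V ≃* V) := (Subgroup.normalizerMonoidHom V).comp (Subgroup.inclusion hAV)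
  have hfix : ∀ (e : A) (v : V), e ≠ 1 → ρ e v = v → v = 1 := fun e v he h =>
    Subtype.ext (fpf_eq_one hfpf e.2 (fun h => he (Subtype.ext h)) v.2
      (mul_inv_eq_iff_eq_mul.mp (congrArg Subtype.val h)).symm)
  have hN : ∀ (e : A) (m : ℕ), e ≠ 1 → e ^ m = 1 → 0 < m → ∀ w : V,
      ∏ i ∈ Finset.range m, ρ (e ^ i) w = 1 := by
    intro e m he hem hm w
    refine hfix e _ he ?_
    rw [map_prod]
    have h1 : ∀ i, ρ e (ρ (e ^ i) w) = ρ (e ^ (i + 1)) w := fun i => by
      rw [pow_succ', map_mul]; rfl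
    simp only [h1]
    obtain ⟨k, rfl⟩ : ∃ k, m = k + 1 := ⟨m - 1, by omega⟩
    rw [Finset.prod_range_succ, Finset.prod_range_succ' _ k, hem, pow_zero]
  let α : A := ⟨a, ha⟩
  let ξ : A := ⟨x, hx⟩
  have hvp : ∀ v : V, v ^ p = 1 := by
    intro v
    have h1 : ∏ j ∈ Finset.range p, ∏ i ∈ Finset.range q, ρ ((α ^ j * ξ) ^ i) v = 1 := by
      refine Finset.prod_eq_one fun j _ => hN _ q ?_ (Subtype.ext (hall j)) hq.pos v
      intro h
      have h' : a ^ j * x = 1 := congrArg Subtype.val h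
      exact hxa (eq_inv_of_mul_eq_one_right h' ▸
        inv_mem (pow_mem (Subgroup.mem_zpowers a) j))
    rw [Finset.prod_comm] at h1
    obtain ⟨k, rfl⟩ : ∃ k, q = k + 1 := ⟨q - 1, by have := hq.pos; omega⟩
    rw [Finset.prod_range_succ'] at h1
    have h0 : ∏ j ∈ Finset.range p, ρ ((α ^ j * ξ) ^ 0) v = v ^ p := by simp
    rw [h0, Finset.prod_eq_one, one_mul] at h1
    · exact h1
    intro i hi
    have hr' : ξ * α * ξ⁻¹ = α ^ r := Subtype.ext hr
    let s := ∑ l ∈ Finset.range (i + 1), r ^ l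
    have hs : α ^ s ≠ 1 := by
      intro hs
      have h2 : (a * x) ^ (i + 1) = x ^ (i + 1) := by
        have h3 := Cfsg.Agent.PGroups.UniqueSubgroup.mul_pow_eq hr 1 (i + 1)
        have hs' : a ^ s = 1 := congrArg Subtype.val hs
        rw [pow_one, one_mul, hs', one_mul] at h3
        exact h3
      have hi' : i + 1 < k + 1 := by have := Finset.mem_range.mp hi; omega
      have hc : (i + 1).Coprime (k + 1) :=
        (hq.coprime_iff_not_dvd.mpr fun h => absurd (Nat.le_of_dvd (Nat.succ_pos i) h)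
          (by omega)).symm
      have hax : orderOf (a * x) = k + 1 := by
        have h := hall 1
        rw [pow_one] at h
        exact orderOf_eq_prime h fun h1' => hxa (eq_inv_of_mul_eq_one_right h1' ▸
          inv_mem (Subgroup.mem_zpowers a))
      have heq : (a * x) ^ 1 = x ^ 1 := by
        obtain ⟨m, -, hm⟩ := Nat.exists_mul_mod_eq_one_of_coprime hc hq.one_lt
        calc (a * x) ^ 1 = ((a * x) ^ (i + 1)) ^ m := by
              rw [← pow_mul, ← pow_mod_orderOf _ ((i + 1) * m), hax, hm]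
          _ = (x ^ (i + 1)) ^ m := by rw [h2]
          _ = x ^ 1 := by rw [← pow_mul, ← pow_mod_orderOf x ((i + 1) * m), hox, hm]
      rw [pow_one, pow_one, mul_eq_right] at heq
      rw [heq, orderOf_one] at hoa
      exact hp.ne_one hoa.symm
    have h4 := hN (α ^ s) p hs (by
      rw [← pow_mul, mul_comm, pow_mul, show α ^ p = 1 from Subtype.ext (hoa ▸ pow_orderOf_eq_one a),
        one_pow]) hp.pos (ρ (ξ ^ (i + 1)) v)
    refine (Finset.prod_congr rfl fun j _ => ?_).trans h4
    rw [Cfsg.Agent.PGroups.UniqueSubgroup.mul_pow_eq hr' j (i + 1), map_mul, ← pow_mul,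
      mul_comm s j]
    rfl
  refine hV ((Subgroup.eq_bot_iff_forall _).mpr fun v hv => ?_)
  have hc : (Nat.card V).Coprime p :=
    ((hcop.coprime_dvd_left (hoa ▸ (Subgroup.orderOf_dvd_natCard A ha)))).symm
  exact congrArg Subtype.val ((powCoprime hc).injective
    ((hvp ⟨v, hv⟩).trans (one_pow p).symm) : (⟨v, hv⟩ : V) = 1)

/-- In a group acting without fixed points, an element of prime order normalising a subgroup of
prime order centralises it, and lies in it if the two primes agree. -/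
theorem fpf_commute_and_mem [Finite G] {A K : Subgroup G}
    (hAK : A ≤ Subgroup.normalizer (K : Set G))
    (hfpf : ∀ a ∈ A, a ≠ 1 → K ⊓ Subgroup.centralizer {a} = ⊥) (hK : K ≠ ⊥)
    {a x : G} {p q : ℕ} (hp : p.Prime) (hq : q.Prime) (ha : a ∈ A) (hx : x ∈ A)
    (hoa : orderOf a = p) (hox : orderOf x = q) (hnorm : x * a * x⁻¹ ∈ Subgroup.zpowers a) :
    x * a = a * x ∧ (p = q → x ∈ Subgroup.zpowers a) := by
  by_cases hxa : x ∈ Subgroup.zpowers a
  · obtain ⟨k, rfl⟩ := hxa
    exact ⟨((Commute.refl a).zpow_left k).eq, fun _ => Subgroup.zpow_mem_zpowers a k⟩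
  obtain ⟨r, hr⟩ := Submonoid.mem_powers_iff _ _ |>.mp (mem_powers_iff_mem_zpowers.mpr hnorm)
  replace hr := hr.symm
  let L := Subgroup.zpowers a ⊔ Subgroup.zpowers x
  have hLA : L ≤ A := sup_le (Subgroup.zpowers_le.mpr ha) (Subgroup.zpowers_le.mpr hx)
  have hxn : Subgroup.zpowers x ≤ Subgroup.normalizer (Subgroup.zpowers a : Set G) := by
    rw [Subgroup.zpowers_le, ← conj_smul_eq_self_iff]
    refine Subgroup.eq_of_le_of_card_ge ?_ (card_conj_smul _ _).ge
    rw [conj_smul_eq_map, MonoidHom.map_zpowers, Subgroup.zpowers_le]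
    exact hnorm
  have hL : Group.IsSolvable L := by
    have hle : Subgroup.zpowers a ≤ L := le_sup_left
    have hn : ((Subgroup.zpowers a).subgroupOf L).Normal :=
      (Subgroup.normal_subgroupOf_iff_le_normalizer hle).mpr (sup_le Subgroup.le_normalizer hxn)
    rw [Group.isSolvable_iff_subgroup_quotient ((Subgroup.zpowers a).subgroupOf L)]
    refine ⟨Group.isSolvable_of_isSolvable_injective
      (f := (Subgroup.subgroupOfEquivOfLe hle).toMonoidHom)
      (Subgroup.subgroupOfEquivOfLe hle).injective, ?_⟩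
    refine Group.isSolvable_of_surjective (f := (QuotientGroup.mk' _).comp
      (Subgroup.inclusion (le_sup_right : Subgroup.zpowers x ≤ L))) fun y => ?_
    obtain ⟨⟨g, hg⟩, rfl⟩ := QuotientGroup.mk'_surjective _ y
    obtain ⟨u, hu, v, hv, rfl⟩ := (mem_sup_of_le_normalizer hxn).mp hg
    refine ⟨⟨v, hv⟩, ?_⟩
    rw [MonoidHom.comp_apply, QuotientGroup.mk'_apply, QuotientGroup.mk'_apply, QuotientGroup.eq,
      Subgroup.mem_subgroupOf]
    simpa [mul_assoc] using (Subgroup.le_normalizer_iff.mp hxn) v⁻¹ (inv_mem hv) u hu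
  obtain ⟨V, hVK, hV, hVab, hLV⟩ := fpf_exists_abelian (hLA.trans hAK)
    (fpf_mono hfpf hLA le_rfl) (Or.inl hL) hK
  have haL : a ∈ L := Subgroup.mem_sup_left (Subgroup.mem_zpowers a)
  have hxL : x ∈ L := Subgroup.mem_sup_right (Subgroup.mem_zpowers x)
  have hnc := fpf_norm_contradiction hLV (fpf_mono hfpf hLA hVK) hV hp hq haL hxL hoa hox hxa hr
  have hx1 : x ^ q = 1 := hox ▸ pow_orderOf_eq_one x
  have ha1 : a ^ p = 1 := hoa ▸ pow_orderOf_eq_one a
  by_cases hc : x * a = a * x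
  · refine ⟨hc, fun hpq => (hnc fun j => ?_).elim⟩
    rw [((Commute.pow_left (Commute.symm hc : Commute a x) j)).mul_pow, hx1, mul_one, ← hpq,
      ← pow_mul, mul_comm, pow_mul, ha1, one_pow]
  · refine (hnc fun j => ?_).elim
    rw [Cfsg.Agent.PGroups.UniqueSubgroup.mul_pow_eq hr, hx1, mul_one, mul_comm, pow_mul]
    have hS : a ^ (∑ i ∈ Finset.range q, r ^ i) = 1 := by
      rw [← orderOf_dvd_iff_pow_eq_one, hoa]
      by_contra hS
      refine hc (mul_inv_eq_iff_eq_mul.mp ?_)
      have hrq : a ^ (r ^ q) = a ^ 1 := by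
        rw [← Cfsg.Agent.PGroups.UniqueSubgroup.pow_conj_eq hr q, hx1, pow_one]; group
      rw [hr]
      conv_rhs => rw [← pow_one a]
      rw [pow_eq_pow_iff_modEq, hoa] at hrq ⊢
      rcases Nat.eq_zero_or_pos r with rfl | hr0
      · rw [zero_pow hq.ne_zero] at hrq; exact hrq
      · rw [Nat.ModEq.comm, Nat.modEq_iff_dvd' (Nat.one_le_pow _ _ hr0)] at hrq
        rw [Nat.ModEq.comm, Nat.modEq_iff_dvd' hr0]
        rw [← geom_sum_mul_of_one_le hr0] at hrq
        exact (hp.dvd_mul.mp hrq).resolve_left hS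
    rw [hS, one_pow]

/-- An abelian group acting without fixed points on a nontrivial group is cyclic. -/
theorem fpf_isCyclic_of_abelian [Finite G] {A K : Subgroup G} [IsMulCommutative A]
    (hAK : A ≤ Subgroup.normalizer (K : Set G))
    (hfpf : ∀ a ∈ A, a ≠ 1 → K ⊓ Subgroup.centralizer {a} = ⊥) (hK : K ≠ ⊥) : IsCyclic A := by
  by_contra h
  obtain ⟨q, hq, x, y, hx1, hx, hy, hyx⟩ := exists_two_independent_of_not_isCyclic A h
  have := Fact.mk hq
  have hy1 : y ≠ 1 := fun h => hyx (h ▸ one_mem _)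
  have hox : orderOf (x : G) = q := by rw [Subgroup.orderOf_coe, orderOf_eq_prime hx hx1]
  have hoy : orderOf (y : G) = q := by rw [Subgroup.orderOf_coe, orderOf_eq_prime hy hy1]
  have hc : (y : G) * x * (y : G)⁻¹ ∈ Subgroup.zpowers (x : G) := by
    rw [show (y : G) * x = x * y from congrArg Subtype.val (mul_comm y x), mul_inv_cancel_right]
    exact Subgroup.mem_zpowers _
  obtain ⟨k, hk⟩ := (fpf_commute_and_mem hAK hfpf hK hq hq x.2 y.2 hox hoy hc).2 rfl
  exact hyx ⟨k, Subtype.ext (by simpa using hk)⟩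

/-- A `p`-group acting without fixed points on a nontrivial group is cyclic or generalized
quaternion. -/
theorem fpf_isCyclic_or_quaternion [Finite G] {A K : Subgroup G} {p : ℕ} [hp : Fact p.Prime]
    (hA : IsPGroup p A) (hAK : A ≤ Subgroup.normalizer (K : Set G))
    (hfpf : ∀ a ∈ A, a ≠ 1 → K ⊓ Subgroup.centralizer {a} = ⊥) (hK : K ≠ ⊥) :
    IsCyclic A ∨ (p = 2 ∧ ∃ n : ℕ, Nonempty (A ≃* QuaternionGroup (2 ^ n))) := by
  rcases subsingleton_or_nontrivial A with h | h
  · exact Or.inl isCyclic_of_subsingleton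
  obtain ⟨n, hn0, hn⟩ := hA.nontrivial_iff_card.mp h
  have hdc : p ∣ Nat.card (Subgroup.center A) := by
    obtain ⟨k, hk⟩ := IsPGroup.iff_card.mp (hA.to_subgroup (Subgroup.center A))
    rcases Nat.eq_zero_or_pos k with rfl | hk0
    · rw [pow_zero, Subgroup.card_eq_one] at hk
      exact absurd hk hA.bot_lt_center.ne'
    · rw [hk]; exact dvd_pow_self p hk0.ne'
  obtain ⟨⟨z, hz⟩, hzo⟩ := exists_prime_orderOf_dvd_card' p hdc
  rw [Subgroup.orderOf_mk] at hzo
  have hmem : ∀ y : A, orderOf y = p → y ∈ Subgroup.zpowers z := by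
    intro y hy
    have hc : (y : G) * z * (y : G)⁻¹ ∈ Subgroup.zpowers (z : G) := by
      rw [show (y : G) * z = z * y from congrArg Subtype.val (Subgroup.mem_center_iff.mp hz y),
        mul_inv_cancel_right]
      exact Subgroup.mem_zpowers _
    obtain ⟨k, hk⟩ := (fpf_commute_and_mem hAK hfpf hK hp.out hp.out z.2 y.2
      (by rw [Subgroup.orderOf_coe, hzo]) (by rw [Subgroup.orderOf_coe, hy]) hc).2 rfl
    exact ⟨k, Subtype.ext (by simpa using hk)⟩
  refine Cfsg.Agent.PGroups.UniqueSubgroup.isCyclic_or_quaternion hA ?_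
  have hall : ∀ H : Subgroup A, Nat.card H = p → H = Subgroup.zpowers z := by
    intro H hH
    refine Subgroup.eq_of_le_of_card_ge (fun y hy => ?_) (by rw [hH, Nat.card_zpowers, hzo])
    rcases (Nat.dvd_prime hp.out).mp (hH ▸ Subgroup.orderOf_dvd_natCard H hy) with h1 | h1
    · rw [orderOf_eq_one_iff.mp h1]; exact one_mem _
    · exact hmem y h1
  exact fun H L hH hL => (hall H hH).trans (hall L hL).symm

/-- A group of order `p * q` acting without fixed points on a nontrivial group is cyclic. -/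
theorem fpf_isCyclic_of_card_mul_prime [Finite G] {A K : Subgroup G} {p q : ℕ} (hp : p.Prime)
    (hq : q.Prime) (hcard : Nat.card A = p * q) (hAK : A ≤ Subgroup.normalizer (K : Set G))
    (hfpf : ∀ a ∈ A, a ≠ 1 → K ⊓ Subgroup.centralizer {a} = ⊥) (hK : K ≠ ⊥) : IsCyclic A := by
  wlog hle : q ≤ p generalizing p q
  · exact this hq hp (by rw [hcard, mul_comm]) (Nat.le_of_not_le hle)
  have := Fact.mk hp
  have := Fact.mk hq
  rcases eq_or_lt_of_le hle with rfl | hlt
  · have : IsMulCommutative A :=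
      IsPGroup.isMulCommutative_of_card_eq_prime_sq (hcard.trans (sq q).symm)
    exact fpf_isCyclic_of_abelian hAK hfpf hK
  obtain ⟨⟨a, ha⟩, hoa⟩ := exists_prime_orderOf_dvd_card' (G := A) p (hcard ▸ dvd_mul_right p q)
  obtain ⟨⟨x, hx⟩, hox⟩ := exists_prime_orderOf_dvd_card' (G := A) q (hcard ▸ dvd_mul_left q p)
  rw [Subgroup.orderOf_mk] at hoa hox
  have hnorm : x * a * x⁻¹ ∈ Subgroup.zpowers a := by
    by_contra hn
    let B := Subgroup.zpowers (x * a * x⁻¹)
    have hcB : Nat.card B = p := by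
      rw [Nat.card_zpowers, ← hoa, ← MulAut.conj_apply]; exact MulEquiv.orderOf_eq _ a
    have hca : Nat.card (Subgroup.zpowers a) = p := by rw [Nat.card_zpowers, hoa]
    have hd : Disjoint (Subgroup.zpowers a) B := by
      rw [disjoint_iff]
      rcases (Nat.dvd_prime hp).mp (hcB ▸ Subgroup.card_dvd_of_le
        (inf_le_right : Subgroup.zpowers a ⊓ B ≤ B)) with h | h
      · exact Subgroup.card_eq_one.mp h
      · refine absurd ?_ hn
        have heq := Subgroup.eq_of_le_of_card_ge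
          (inf_le_right : Subgroup.zpowers a ⊓ B ≤ B) (by rw [h, hcB])
        have hmem : x * a * x⁻¹ ∈ B := Subgroup.mem_zpowers _
        rw [← heq] at hmem
        exact (Subgroup.mem_inf.mp hmem).1
    have hinj : Function.Injective (fun z : ↥(Subgroup.zpowers a) × ↥B =>
        (⟨z.1 * z.2, mul_mem (Subgroup.zpowers_le.mpr ha z.1.2)
          (Subgroup.zpowers_le.mpr (mul_mem (mul_mem hx ha) (inv_mem hx)) z.2.2)⟩ : A)) :=
      fun u v huv => Subgroup.mul_injective_of_disjoint hd (congrArg Subtype.val huv)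
    have := Nat.card_le_card_of_injective _ hinj
    rw [Nat.card_prod, hca, hcB, hcard] at this
    exact absurd this (by
      have := Nat.mul_lt_mul_of_pos_left hlt hp.pos
      omega)
  have hc := (fpf_commute_and_mem hAK hfpf hK hp hq ha hx hoa hox hnorm).1
  refine isCyclic_of_orderOf_eq_card (⟨a * x, mul_mem ha hx⟩ : A) ?_
  rw [Subgroup.orderOf_mk, (Commute.symm hc : Commute a x).orderOf_mul_eq_mul_orderOf_of_coprime
    (by rw [hoa, hox]; exact (Nat.coprime_primes hp hq).mpr hlt.ne'), hoa, hox, hcard]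

end Cfsg.Agent.Coprime
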